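import Cfsg.Agent.ThA.Red
import Cfsg.Agent.AB.J1f
import Cfsg.Agent.AB.EE
import Cfsg.Agent.Transfer.Abelian

/-! A 2-central involution whose weak closure in its centraliser is `2 × A₅` generates `J₁` (`HY.main`). -/
set_option autoImplicit false
set_option linter.unusedSectionVars false
open Subgroup Cfsg.Agent.BG Cfsg.Agent.GW Cfsg.Agent.Gold Cfsg.Agent.ZD Cfsg.Agent.Invol Cfsg.Agent.ThA
  Cfsg.Agent.AB Cfsg.Agent.AB.J1
open scoped commutatorElement

namespace Cfsg.Agent.SCl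
universe u
variable {G : Type u} [Group G] [Finite G] {L S X : Subgroup G} {g t x y : G} {φ : T →* G}

/-- the weak closure of `t` in its centraliser -/
def Wt {G : Type*} [Group G] (t : G) : Subgroup G := closure {x : G | ∃ g : G, x = g * t * g⁻¹ ∧ x * t = t * x}

/-- the hypothesis -/
structure HY {G : Type*} [Group G] (t : G) (S : Subgroup G) (φ : T →* G) : Prop where
  ht : orderOf t = 2
  syl : SylowIn 2 S ⊤
  mem : t ∈ S
  cen : S ≤ C1[t]
  inj : Function.Injective φ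
  rng : φ.range = Wt t

theorem mem_Wt (h : IsConj t x) (hc : x * t = t * x) : x ∈ Wt t :=
  let ⟨g, e⟩ := isConj_iff.1 h; subset_closure ⟨g, e.symm, hc⟩

theorem Wt_le (t : G) : Wt t ≤ C1[t] := (closure_le _).2 fun _ ⟨_, _, h⟩ => mem_cent1.2 h

theorem cj_Wt_le (g t : G) : cj g (Wt t) ≤ Wt (g * t * g⁻¹) := by
  rw [cj_le_iff, Wt, closure_le]
  rintro _ ⟨k, rfl, e⟩
  rw [SetLike.mem_coe, mem_cj_inv]
  refine mem_Wt (isConj_iff.2 ⟨g * k * g⁻¹, by group⟩) ?_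
  rw [conj_mul, e, conj_mul]

theorem cj_Wt (g t : G) : cj g (Wt t) = Wt (g * t * g⁻¹) := (cj_Wt_le g t).antisymm (by
  have := cj_mono g (cj_Wt_le g⁻¹ (g * t * g⁻¹))
  simpa [← cj_mul, mul_assoc] using this)

theorem norm_Wt (t : G) : C1[t] ≤ N[Wt t] := fun g hg => mem_norm_of_cj_le (by
  rw [cj_Wt, mem_cent1.1 hg, mul_inv_cancel_right])

theorem Wt_le_ncl (h : IsConj t x) : Wt x ≤ normalClosure {t} := (closure_le _).2 (by
  rintro _ ⟨g, rfl, -⟩
  obtain ⟨k, rfl⟩ := isConj_iff.1 h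
  have n : (normalClosure ({t} : Set G)).Normal := normalClosure_normal
  exact n.conj_mem _ (n.conj_mem t (subset_normalClosure (Set.mem_singleton t)) k) g)

theorem simple_nml [IsSimpleGroup L] (h : X ≤ L) (hn : L ≤ N[X]) : X = ⊥ ∨ X = L := by
  refine (IsSimpleGroup.eq_bot_or_eq_top_of_normal (X.subgroupOf L)
    ((normal_subgroupOf_iff_le_normalizer h).2 hn)).imp (fun e => ?_) fun e => le_antisymm h (subgroupOf_eq_top.1 e)
  rwa [subgroupOf_eq_bot, disjoint_iff, inf_eq_left.2 h] at e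

namespace HY
variable (h : HY t S φ)
include h

theorem ord (a : T) : orderOf (φ a) = o a := (orderOf_injective φ h.inj a).trans (orderOf_eq a)
theorem mem_W (a : T) : φ a ∈ Wt t := h.rng ▸ ⟨a, rfl⟩
theorem ex (hx : x ∈ Wt t) : ∃ a, φ a = x := (h.rng ▸ hx :)

theorem hz : φ z = t := by
  obtain ⟨a, e⟩ := h.ex (mem_Wt (IsConj.refl t) rfl)
  rw [← eq_z a (by rw [← h.ord, e, h.ht]) fun b => h.inj (by
    rw [map_mul, map_mul, e]; exact mem_cent1.1 (Wt_le t (h.mem_W b))), e]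

theorem conj (g : G) : HY (g * t * g⁻¹) (cj g S) ((MulAut.conj g).toMonoidHom.comp φ) :=
  ⟨SE.conj_two h.ht g, by simpa using pHallJ g h.syl, conj_mem_cj g h.mem, C1_conj g t ▸ cj_mono g h.cen,
    (MulAut.conj g).injective.comp h.inj, by rw [MonoidHom.range_comp, h.rng, ← cj_Wt]; rfl⟩

theorem of_conj (hx : IsConj t x) : ∃ S φ, HY x S φ := let ⟨g, e⟩ := isConj_iff.1 hx; ⟨_, _, e ▸ h.conj g⟩

theorem odd_fix : Odd (Nat.card {a : T // IsConj t (φ a)}) := by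
  classical
  have := Fintype.ofFinite G
  let f : Function.End {x : G // IsConj t x} := fun x => ⟨t * x * t⁻¹, x.2.trans (isConj_iff.2 ⟨t, rfl⟩)⟩
  have h1 := Equiv.Perm.card_fixedPoints_modEq (f := f) (p := 2) (n := 1) (funext fun w => Subtype.ext (by
    change t * (t * w * t⁻¹) * t⁻¹ = w
    rw [inv_eq_of h.ht, ← mul_assoc, ← mul_assoc, mul_self_of h.ht, one_mul, mul_assoc, mul_self_of h.ht, mul_one]))
  have h2 : Nat.card {x : G // IsConj t x} = C1[t].index := by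
    rw [index_eq_card]
    refine (Nat.card_congr (Equiv.ofBijective (Quotient.lift (fun g : G => (⟨g * t * g⁻¹, isConj_iff.2 ⟨g, rfl⟩⟩ :
      {x : G // IsConj t x})) fun a b e => Subtype.ext ?_) ⟨?_, ?_⟩)).symm
    · have := mem_cent1.1 (QuotientGroup.leftRel_apply.1 e)
      calc a * t * a⁻¹ = a * (t * (a⁻¹ * b)) * b⁻¹ := by group
        _ = _ := by rw [← this]; group
    · rintro ⟨a⟩ ⟨b⟩ e
      replace e : a * t * a⁻¹ = b * t * b⁻¹ := congrArg Subtype.val e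
      refine QuotientGroup.eq.2 (mem_cent1.2 ?_)
      calc a⁻¹ * b * t = a⁻¹ * (b * t * b⁻¹) * b := by group
        _ = _ := by rw [← e]; group
    · rintro ⟨x, hx⟩
      obtain ⟨g, rfl⟩ := isConj_iff.1 hx
      exact ⟨⟦g⟧, rfl⟩
  have h3 : Nat.card {a : T // IsConj t (φ a)} = Nat.card f.fixedPoints := Nat.card_congr (Equiv.ofBijective
    (fun a => ⟨⟨φ a.1, a.2⟩, Subtype.ext (mul_inv_eq_iff_eq_mul.2 (mem_cent1.1 (Wt_le t (h.mem_W a.1))).symm)⟩)
    ⟨fun a b e => Subtype.ext (h.inj (congrArg (fun x => x.1.1) e)), fun ⟨⟨x, hx⟩, e⟩ => by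
      obtain ⟨a, rfl⟩ := h.ex (mem_Wt hx (mul_inv_eq_iff_eq_mul.1 (congrArg Subtype.val e)).symm)
      exact ⟨⟨a, hx⟩, rfl⟩⟩)
  have h4 : Odd C1[t].index := Odd.of_dvd_nat (pnat_odd.1 h.syl.idx) (relIndex_top_right S ▸ index_dvd_of_le h.cen)
  rw [← Nat.card_eq_fintype_card, ← Nat.card_eq_fintype_card, h2, ← h3] at h1
  rw [Nat.odd_iff] at h4 ⊢
  exact (show _ % 2 = _ % 2 from h1).symm.trans h4

theorem cls_aux (v : T) (n : ℕ) (hn : (Finset.univ.filter fun a : T => a = z ∨ ∃ c, c * v * c⁻¹ = a).card = n)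
    (e : ∀ a, IsConj t (φ a) ↔ a = z ∨ ∃ c, c * v * c⁻¹ = a) : Odd n := by
  have := h.odd_fix
  rwa [Nat.card_congr (Equiv.subtypeEquivRight e), Nat.card_eq_fintype_card, Fintype.card_subtype, hn] at this

theorem cls (a : T) (ha : o a = 2) : IsConj t (φ a) := by
  have k : ∀ a c : T, IsConj t (φ (c * a * c⁻¹)) ↔ IsConj t (φ a) := fun a c => by
    have : IsConj (φ a) (φ (c * a * c⁻¹)) := isConj_iff.2 ⟨φ c, by simp⟩
    exact ⟨fun e => e.trans this.symm, fun e => e.trans this⟩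
  have kz : IsConj t (φ z) := h.hz ▸ IsConj.refl _
  have o2 : ∀ a, IsConj t (φ a) → o a = 2 := fun a e => by
    obtain ⟨g, e⟩ := isConj_iff.1 e
    rw [← h.ord, ← e, SE.conj_two h.ht]
  have k3 : ∀ a, o a = 2 → a = z ∨ (∃ c, c * J1.mk 3 * c⁻¹ = a) ∨ ∃ c, c * (z * J1.mk 3) * c⁻¹ = a := by decide +kernel
  have k4 : ∀ v w : T, IsConj t (φ v) → ¬ IsConj t (φ w) → (∀ a, o a = 2 → a = z ∨ (∃ c, c * v * c⁻¹ = a) ∨
      ∃ c, c * w * c⁻¹ = a) → ∀ a, IsConj t (φ a) ↔ a = z ∨ ∃ c, c * v * c⁻¹ = a := fun v w hv hw e a =>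
    ⟨fun r => (e a (o2 a r)).imp_right fun e => e.resolve_right fun ⟨c, e⟩ => hw ((k w c).1 (e ▸ r)), by
      rintro (rfl | ⟨c, rfl⟩); exacts [kz, (k _ _).2 hv]⟩
  have k5 : IsConj t (φ (J1.mk 3)) ∧ IsConj t (φ (z * J1.mk 3)) := by
    by_cases h1 : IsConj t (φ (J1.mk 3)) <;> by_cases h2 : IsConj t (φ (z * J1.mk 3))
    · exact ⟨h1, h2⟩
    · exact absurd (h.cls_aux _ 16 (by decide +kernel) (k4 _ _ h1 h2 k3)) (by decide)
    · exact absurd (h.cls_aux _ 16 (by decide +kernel) (k4 _ _ h2 h1 fun a ha => (k3 a ha).imp_right Or.symm))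
        (by decide)
    have : Wt t ≤ zpowers t := (closure_le _).2 (by
      rintro _ ⟨g, rfl, e⟩
      obtain ⟨a, e'⟩ := h.ex (mem_Wt (isConj_iff.2 ⟨g, rfl⟩) e)
      have r : IsConj t (φ a) := e' ▸ isConj_iff.2 ⟨g, rfl⟩
      rcases k3 a (o2 a r) with rfl | ⟨c, rfl⟩ | ⟨c, rfl⟩
      exacts [e' ▸ h.hz ▸ mem_zpowers _, (h1 ((k _ _).1 r)).elim, (h2 ((k _ _).1 r)).elim])
    rcases (mem_zpowers_invol (mul_self_of h.ht)).1 (this (h.mem_W (J1.mk 3))) with e | e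
    · exact absurd (h.inj (e.trans (map_one φ).symm)) (by decide +kernel)
    · exact absurd (h.inj (e.trans h.hz.symm)) (by decide +kernel)
  rcases k3 a ha with rfl | ⟨c, rfl⟩ | ⟨c, rfl⟩
  exacts [kz, (k _ _).2 k5.1, (k _ _).2 k5.2]

theorem cls' (hx : x ∈ Wt t) (h2 : orderOf x = 2) : IsConj t x := by
  obtain ⟨a, rfl⟩ := h.ex hx
  exact h.cls a (h.ord a ▸ h2)

theorem n1 (hn : Wt t ≤ N[L]) (htL : t ∈ L) (hx : x ∈ Wt t) (xL : x ∈ L) (x2 : orderOf x = 2) (xt : x ≠ t)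
    (hy : y ∈ Wt t) (y2 : orderOf y = 2) : y ∈ L := by
  obtain ⟨a, rfl⟩ := h.ex hx
  obtain ⟨b, rfl⟩ := h.ex hy
  rw [h.ord] at x2 y2
  rw [← h.hz] at htL xt
  have k : ∀ a : T, o a = 2 → a ≠ z → ∀ b, o b = 2 → b = z ∨ ∃ c, b = c * a * c⁻¹ ∨ b = z * (c * a * c⁻¹) := by
    decide +kernel
  have k2 : ∀ c, φ (c * a * c⁻¹) ∈ L := fun c => by simpa using conj_mem_of_norm (hn (h.mem_W c)) xL
  rcases k a x2 (fun e => xt (e ▸ rfl)) b y2 with rfl | ⟨c, rfl | rfl⟩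
  exacts [htL, k2 c, map_mul φ _ _ ▸ mul_mem htL (k2 c)]

theorem n2 (hx : x ∈ Wt t) (x2 : orderOf x = 2) (xt : x ≠ t) :
    ∃ w ∈ Wt t, w * x * w⁻¹ ≠ x ∧ w * x * w⁻¹ * x = x * (w * x * w⁻¹) := by
  obtain ⟨a, rfl⟩ := h.ex hx
  rw [h.ord] at x2
  rw [← h.hz] at xt
  have k : ∀ a : T, o a = 2 → a ≠ z → ∃ c, c * a * c⁻¹ ≠ a ∧ c * a * c⁻¹ * a = a * (c * a * c⁻¹) := by decide +kernel
  obtain ⟨c, k1, k2⟩ := k a x2 fun e => xt (e ▸ rfl)
  exact ⟨_, h.mem_W c, fun e => k1 (h.inj (by simpa using e)), by simpa using congrArg φ k2⟩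

theorem inf_odd (hX : X ⊴ ⊤) (ho : Odd #X) (hx : x ∈ X) (hw : x ∈ Wt t) : x = 1 := by
  obtain ⟨a, rfl⟩ := h.ex hw
  have k : ∀ a : T, a ≠ 1 → 2 ∣ o a ∨ ∃ c, o (a * (c * (a * a) * c⁻¹)) = 2 := by decide +kernel
  by_contra e
  rcases k a fun r => e (r ▸ map_one φ) with r | ⟨c, r⟩
  · exact (odd_orderOf_of_mem ho hx).not_two_dvd_nat (h.ord a ▸ r)
  · exact odd_card_iff.1 ho _ (by simpa using mul_mem hx (hX.conj_mem (mem_top (φ c)) (mul_mem hx hx))) (h.ord _ ▸ r)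

theorem odd_cent (hX : X ⊴ ⊤) (ho : Odd #X) : X ⊓ C1[t] ≤ C[Wt t] := fun x hx => mem_cent.2 fun w hw =>
  mul_inv_eq_iff_eq_mul.1 (mul_inv_eq_one.1 (h.inf_odd hX ho (mul_mem (hX.conj_mem (mem_top w) hx.1) (inv_mem hx.1)) (by
    simpa [mul_assoc] using mul_mem hw (conj_mem_of_norm (norm_Wt t hx.2) (inv_mem hw)))))

theorem cent_odd (hX : X ⊴ ⊤) (ho : Odd #X) : normalClosure {t} ≤ C[X] := by
  have k : ∀ a : T, o a = 2 → X ⊓ C1[φ a] ≤ C1[t] := fun a ha => by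
    obtain ⟨S', φ', h'⟩ := h.of_conj (h.cls a ha)
    exact (h'.odd_cent hX ho).trans (cent_le_cent1 (mem_Wt (h.cls a ha).symm (mem_cent1.1 (Wt_le t (h.mem_W a))).symm))
  have n : ∀ g, g ∈ N[X] := fun g => hX.norm (mem_top g)
  have := SE.le_of_four (u := φ z) (v := φ (J1.mk 3)) (h.ord _ ▸ o_z) (h.ord _ ▸ by decide +kernel)
    (fun e => absurd (h.inj e) (by decide +kernel)) (Commute.map (z_central _).symm φ) ho (n _) (n _) (k _ o_z)
    (k _ (by decide +kernel)) (map_mul φ _ _ ▸ k _ (by decide +kernel))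
  have : (C[X]).Normal := ⟨fun c hc g => conj_mem_of_norm (norms_cent le_rfl (n g)) hc⟩
  exact normalClosure_le_normal (by rintro _ rfl; exact le_cent1_iff.1 ‹_›)

theorem quo (N : Subgroup G) [N.Normal] (ho : Odd #N) :
    HY (QuotientGroup.mk' N t) (S.map (QuotientGroup.mk' N)) ((QuotientGroup.mk' N).comp φ) := by
  have nN : N ⊴ ⊤ := ⟨le_top, norm_of_normal N ⊤⟩
  have hs := QuotientGroup.mk'_surjective N
  have ko : Odd #(QuotientGroup.mk' N).ker := by rwa [QuotientGroup.ker_mk']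
  refine ⟨SE.orderOf_map_two _ ko h.ht, by simpa [map_top_of_surjective _ hs] using pHall_map (QuotientGroup.mk' N) h.syl,
    mem_map_of_mem _ h.mem, ?_, (injective_iff_map_eq_one _).2 fun a e => h.inj ((h.inf_odd nN ho
      ((QuotientGroup.eq_one_iff _).1 e) (h.mem_W a)).trans (map_one φ).symm), ?_⟩
  · rintro _ ⟨s, hs, rfl⟩
    rw [mem_cent1, ← map_mul, ← map_mul, mem_cent1.1 (h.cen hs)]
  rw [MonoidHom.range_comp, h.rng, Wt, Wt, MonoidHom.map_closure]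
  congr 1
  ext y
  refine ⟨?_, ?_⟩
  · rintro ⟨_, ⟨g, rfl, e⟩, rfl⟩
    exact ⟨QuotientGroup.mk' N g, by simp, by rw [← map_mul, e, map_mul]⟩
  rintro ⟨g, rfl, e⟩
  obtain ⟨g, rfl⟩ := hs g
  refine ⟨_, ⟨g, rfl, ?_⟩, by simp⟩
  have x2 := SE.conj_two h.ht g
  have xK : g * t * g⁻¹ ∈ normalClosure {t} := Wt_le_ncl (isConj_iff.2 ⟨g, rfl⟩) (mem_Wt (IsConj.refl _) rfl)
  rw [← map_inv, ← map_mul, ← map_mul] at e
  generalize g * t * g⁻¹ = x at *
  have m : x * t * (x * t) ∈ N := by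
    rw [← QuotientGroup.eq_one_iff, ← QuotientGroup.mk'_apply, map_mul, map_mul]
    exact mul_sq (by rw [← map_mul, mul_self_of x2, map_one]) (by rw [← map_mul, mul_self_of h.ht, map_one]) e
  have c := mem_cent.1 (h.cent_odd nN ho xK) _ m
  refine commute_of_mul_sq (mul_self_of x2) (mul_self_of h.ht) (Two.eq_one ⟨1, ?_⟩ (odd_orderOf_of_mem ho m))
  calc (x * t * (x * t)) ^ 2 ^ 1 = x * t * (x * t) * x * (t * x * t) := by rw [pow_one, pow_two]; group
    _ = x * (x * (t * (x * (t * t) * x) * t)) := by rw [c]; group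
    _ = 1 := by rw [mul_self_of h.ht, mul_one, mul_self_of x2, mul_one, mul_self_of h.ht, mul_one, mul_self_of x2]

theorem sq (hx : x ∈ S ⊓ Wt t) : x = 1 ∨ orderOf x = 2 := by
  obtain ⟨a, rfl⟩ := h.ex hx.2
  obtain ⟨n, e⟩ := two_of_mem h.syl.pg hx.1
  have k : ∀ a : T, a = 1 ∨ o a = 2 ∨ 3 ∣ o a ∨ 5 ∣ o a := by decide +kernel
  have d := h.ord a ▸ orderOf_dvd_of_pow_eq_one e
  rcases k a with rfl | r | r | r
  · exact .inl (map_one φ)
  · exact .inr (h.ord a ▸ r)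
  · exact absurd (Nat.prime_three.dvd_of_dvd_pow (r.trans d)) (by decide)
  · exact absurd (Nat.prime_five.dvd_of_dvd_pow (r.trans d)) (by decide)

theorem ab : Abelem 2 (S ⊓ Wt t) := by
  have k : ∀ x ∈ S ⊓ Wt t, x * x = 1 := fun x hx => (h.sq hx).elim (fun e => by simp [e]) mul_self_of
  exact ⟨⟨⟨fun x y => Subtype.ext (commute_of_mul_sq (k _ x.2) (k _ y.2) (k _ (mul_mem x.2 y.2)))⟩⟩,
    fun x hx => (pow_two x).trans (k x hx)⟩

theorem closed (hx : x ∈ S ⊓ Wt t) (g : G) (e : g * x * g⁻¹ ∈ S) : g * x * g⁻¹ ∈ S ⊓ Wt t := by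
  rcases h.sq hx with rfl | x2
  · simp
  · exact ⟨e, mem_Wt ((h.cls' hx.2 x2).trans (isConj_iff.2 ⟨g, rfl⟩)) (mem_cent1.1 (h.cen e))⟩

theorem ncl_eq : ncl ⊤ (S ⊓ Wt t) = normalClosure {t} := by
  rw [ncl_top]
  exact le_antisymm (normalClosure_le_normal (inf_le_right.trans (Wt_le_ncl (IsConj.refl t)) :))
    (normalClosure_mono (Set.singleton_subset_iff.2 ⟨h.mem, mem_Wt (IsConj.refl t) rfl⟩))

theorem not_cent : t ∉ C[normalClosure {t}] := fun e => by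
  have k := h.cls (J1.mk 3) (by decide +kernel)
  obtain ⟨S', φ', h'⟩ := h.of_conj k
  obtain ⟨w, hw, e1, -⟩ := h'.n2 (mem_Wt k.symm (mem_cent1.1 (Wt_le t (h.mem_W _))).symm) h.ht
    fun e => absurd (h.inj (h.hz.trans e)) (by decide +kernel)
  exact e1 (by rw [mem_cent.1 e w (Wt_le_ncl k hw), mul_inv_cancel_right])

theorem simple (hO : Op' 2 (⊤ : Subgroup G) = ⊥) : IsSimpleGroup (normalClosure ({t} : Set G)) := by
  have gs := gs' (sc_of_sylow h.syl h.ab inf_le_left fun g _ a ha => h.closed ha g) hO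
  have hA := cl_of_sylow h.syl ⟨inf_le_left, fun a ha => h.closed ha⟩
  have nK : (normalClosure ({t} : Set G)).Normal := normalClosure_normal
  have tA : t ∈ S ⊓ Wt t := ⟨h.mem, mem_Wt (IsConj.refl t) rfl⟩
  have AK : S ⊓ Wt t ≤ normalClosure {t} := inf_le_right.trans (Wt_le_ncl (IsConj.refl t))
  have cA : ∀ a ∈ S ⊓ Wt t, ∀ b ∈ S ⊓ Wt t, orderOf a = 2 → orderOf b = 2 → a ∈ Wt b := fun a ha b hb a2 b2 =>
    mem_Wt ((h.cls' hb.2 b2).symm.trans (h.cls' ha.2 a2)) (h.ab.1.comm ha hb)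
  have z1 : ∀ x ∈ normalClosure {t}, x ∈ C[normalClosure {t}] → x = 1 := fun x hx hc => by
    have := gs.cen x (h.ncl_eq ▸ hx) fun L hL => centS (h.ncl_eq ▸ hL.nm.le) hc
    refine (h.sq this.1).resolve_right fun x2 => h.not_cent ?_
    obtain ⟨g, rfl⟩ := isConj_iff.1 (h.cls' this.1.2 x2)
    exact (conj_mem_iff_of_norm (norms_cent le_rfl (norm_of_normal _ ⊤ (mem_top g)))).1 hc
  obtain ⟨L, hL, tL⟩ : ∃ L, Cpt ⊤ (S ⊓ Wt t) L ∧ t ∉ C[L] := by_contra fun r => h.not_cent (h.ncl_eq ▸ (gs.cen t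
    (le_ncl _ _ tA) fun L hL => by_contra fun e => r ⟨L, hL, e⟩).2)
  have nL : normalClosure {t} ≤ N[L] := h.ncl_eq ▸ hL.nm.norm
  obtain ⟨a, ha, a1⟩ : ∃ a ∈ S ⊓ Wt t ⊓ L, a ≠ 1 := trivgPn.1 fun e => tL (by
    have := (gs.kl L hL).sup tA
    rw [e, bot_sup_eq] at this
    exact this.2)
  have a2 := (h.sq ha.1).resolve_left a1
  have ca := h.cls' ha.1.2 a2
  obtain ⟨S1, φ1, h1⟩ := h.of_conj ca
  have AL : S ⊓ Wt t ≤ L := fun c hc => by
    rcases h.sq hc with rfl | c2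
    · exact one_mem _
    rcases eq_or_ne a c with rfl | ne
    · exact ha.2
    have cc := h.cls' hc.2 c2
    obtain ⟨S2, φ2, h2⟩ := h.of_conj cc
    obtain ⟨w, hw, e1, e2⟩ := h2.n2 (cA a ha.1 c hc a2 c2) a2 ne
    exact h1.n1 ((Wt_le_ncl ca).trans nL) ha.2 (mem_Wt (isConj_iff.2 ⟨w, rfl⟩) e2)
      (conj_mem_of_norm (nL (Wt_le_ncl cc hw)) ha.2) (SE.conj_two a2 w) e1 (cA c hc a ha.1 c2 a2) c2
  have KL : normalClosure {t} ≤ L := h.ncl_eq.ge.trans (Gold.ncl_le fun g _ => by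
    obtain ⟨k, hk, e⟩ := hA.trans (g := g) AK (cj_le_of_norm (norm_of_normal _ ⊤ (mem_top g)) AK)
    rw [← cj_le_cj (g := k), ← cj_mul, cj_of_norm e, cj_of_norm (nL hk)]
    exact AL)
  obtain rfl : L = normalClosure {t} := le_antisymm (h.ncl_eq ▸ hL.nm.le) KL
  have : Nontrivial (normalClosure ({t} : Set G)) := ⟨⟨⟨t, AK tA⟩, 1, fun e => ne_one_of h.ht (congrArg Subtype.val e)⟩⟩
  refine ⟨fun N hN => (hL.qs (N.map (normalClosure {t}).subtype) ⟨map_subtype_le _, fun g hg => mem_norm_of_conj (by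
    rintro _ ⟨n, hn, rfl⟩; exact mem_map_of_mem (normalClosure {t}).subtype (hN.conj_mem n hn ⟨g, hg⟩))⟩).imp
      (fun e => eq_bot_iff.2 fun x hx => Subtype.ext (z1 _ x.2 (e (mem_map_of_mem _ hx))))
      fun e => eq_top_iff.2 fun x _ => (mem_map_iff_mem (subtype_injective _)).1 (e.ge x.2)⟩

theorem core (hO : Op' 2 (⊤ : Subgroup G) = ⊥) : J1T (normalClosure ({t} : Set G)) := by
  have hs := h.simple hO
  have WK : Wt t ≤ normalClosure {t} := Wt_le_ncl (IsConj.refl t)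
  generalize normalClosure ({t} : Set G) = K at hs WK
  let ψ : T →* K := φ.codRestrict K fun a => WK (h.mem_W a)
  have inj : Function.Injective ψ := fun a b e => h.inj (congrArg Subtype.val e)
  have od : ∀ a, o a = 2 → orderOf (ψ a) = 2 := fun a e => (orderOf_injective ψ inj a).trans ((orderOf_eq a).trans e)
  have nab : ¬ ∀ a b : T, o a = 2 → o b = 2 → ψ a * ψ b = ψ b * ψ a := fun e =>
    (by decide +kernel : ¬ ∀ a : T, o a = 2 → ∀ b, o b = 2 → a * b = b * a) fun a ha b hb =>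
      inj (by rw [map_mul, map_mul, e a b ha hb])
  have hna : ¬ IsMulCommutative K := fun ab => nab fun a b _ _ => ab.is_comm.comm _ _
  have hA := (cl_of_sylow h.syl ⟨inf_le_left, fun a ha => h.closed ha⟩).subgroupOf (inf_le_right.trans WK)
  have zA : ψ z ∈ (S ⊓ Wt t).subgroupOf K := ⟨h.hz.symm ▸ h.mem, h.mem_W z⟩
  have cd : 120 ∣ Nat.card K := card_T ▸ card_dvd_of_injective ψ inj
  rcases kn hna (Ohm1_ne_bot hA.pg fun e => ne_one_of (od z o_z) (e.le zA))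
    (hA.sc fun x hx _ y hy _ => Subtype.ext (h.ab.1.comm hx hy)) with ⟨M, hM⟩ | ⟨V, -, h2, h3⟩ |
      ⟨A0, a1, -, a3, t0, E, L, h1, h2, h3, ⟨F, _, _, ho, h5, ⟨e⟩⟩, h4⟩
  · obtain ⟨t0, Q, hy⟩ := SE.bender_simple (SE.exists_not_comm hna) hM
    obtain ⟨a, ha⟩ := (SE.one_of_se hM).ex _ (od z o_z)
    obtain ⟨g, rfl⟩ := SE.quot_trans M (SE.pt M) a
    have hy' : Suz.Hyp _ _ _ _ _ := ⟨Rank1.Setup.conj hy.setup g, hy.rank⟩
    have k := fun b (hb : o b = 2) => Rank1.Setup.mem_Q_of_pow hy'.setup (n := 1) ((SE.one_of_se hM).smul_of_commute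
      (od z o_z) ha (Commute.map (z_central b) ψ)) (by rw [pow_one, pow_two, mul_self_of (od b hb)])
    exact (nab fun a b ha hb => hy'.invol_comm (k a ha) (mul_self_of (od a ha)) (k b hb)).elim
  · have e1 := V.card_mul_index
    have e2 := pnat_odd.1 h3.idx
    rw [relIndex_top_right, Nat.odd_iff] at e2
    rw [h2] at e1
    omega
  have hab := ab_of_syl a3 a1.abelian
  rw [← Nat.card_eq_fintype_card] at ho h5
  have := Matrix.ProjectiveSpecialLinearGroup.rank_two_simple (F := F) h5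
  obtain ⟨u, s, K0, wj⟩ := wj_of_psl (simple_perfect hna) hab h1 h2 h3 h4 ho e (Op'_simple e.isSimpleGroup
    (Nat.card_congr e.toEquiv ▸ (Dvd.intro 2 rfl).trans (psl_four_dvd h5.le)))
  obtain rfl := wj_eq (simple_perfect hna) wj ho e
  obtain ⟨g, eg⟩ := isConj_iff.1 (wj.cls (od z o_z))
  have : IsSimpleGroup (cj g E) := ((cjEquiv g E).symm.trans e).isSimpleGroup
  have e1 : C1[ψ z] = zpowers (ψ z) ⊔ cj g E := by rw [← eg, C1_conj, ← wj.dp.sup, cj_sup, cj_zpowers]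
  have l1 : (Wt t).subgroupOf K ≤ C1[ψ z] := fun x hx =>
    mem_cent1.2 (Subtype.ext (by simpa [ψ, h.hz] using mem_cent1.1 (Wt_le t hx)))
  have n1 : C1[ψ z] ≤ N[(Wt t).subgroupOf K] := fun c hc => mem_norm_of_conj fun x hx => conj_mem_of_norm (A := Wt t) (norm_Wt t
    (mem_cent1.2 (by simpa [ψ, h.hz] using congrArg Subtype.val (mem_cent1.1 hc)))) hx
  have l2 : cj g E ≤ C1[ψ z] := e1 ▸ le_sup_right
  have e2 : C1[ψ z] = (Wt t).subgroupOf K := by
    refine le_antisymm (e1 ▸ sup_le (zpowers_le.2 zA.2) (inf_eq_right.1 ((simple_nml inf_le_right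
      (normsI (l2.trans n1) (normG _))).resolve_left fun r => nab fun a b _ _ => ?_))) l1
    have m := commutator_mem_commutator (show ψ a ∈ (Wt t).subgroupOf K from h.mem_W a)
      (show ψ b ∈ (Wt t).subgroupOf K from h.mem_W b)
    refine commutatorElement_eq_one_iff_mul_comm.1 (r.le ⟨der_sub _ m, ?_⟩)
    have := dergS (l1.trans e1.le) m
    rw [der_sup_cent (C_zpowers (ψ z) ▸ l2), commG1.2 (abelian_zpowers _).cent, bot_sup_eq] at this
    exact der_sub _ this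
  obtain ⟨P, hP⟩ := (pg_invol (mul_self_of (od z o_z))).exists_le_sylow
  refine j1T_of (no_index_two_of_simple (by omega)) ⟨od z o_z, P, hP (mem_zpowers _), fun x hx =>
    (hab P P.2).comm hx (hP (mem_zpowers _))⟩ ((MulEquiv.subgroupCongr e2).trans ((subgroupOfEquivOfLe WK).trans
      ((MulEquiv.subgroupCongr h.rng.symm).trans ((MonoidHom.ofInjective h.inj).symm.trans eqv))))

theorem main' (O : Subgroup G) [O.Normal] (ho : Odd #O) (j : J1T (normalClosure {QuotientGroup.mk' O t})) :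
    Cfsg.Spor.IsoJ1 (normalClosure ({t} : Set G)) := by
  have nK : (normalClosure ({t} : Set G)).Normal := normalClosure_normal
  have cO := h.cent_odd ⟨le_top, norm_of_normal _ ⊤⟩ ho
  have e : (normalClosure {t}).map (QuotientGroup.mk' O) = normalClosure {QuotientGroup.mk' O t} := by
    rw [map_normalClosure _ _ (QuotientGroup.mk'_surjective O), Set.image_singleton]
  rw [← e] at j
  have pf : normalClosure {t} ≤ ⁅normalClosure ({t} : Set G), normalClosure ({t} : Set G)⁆ := by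
    obtain ⟨a, b, r⟩ : ∃ a b : T, o (a * b * a⁻¹ * b⁻¹) = 2 := by decide +kernel
    obtain ⟨g, r⟩ := isConj_iff.1 (h.cls _ r).symm
    have m := Normal.conj_mem inferInstance _ (commutator_mem_commutator (Wt_le_ncl (IsConj.refl t) (h.mem_W a))
      (Wt_le_ncl (IsConj.refl t) (h.mem_W b))) g
    rw [← map_commutatorElement, commutatorElement_def, r] at m
    exact normalClosure_le_normal (Set.singleton_subset_iff.2 m)
  generalize normalClosure ({t} : Set G) = K at *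
  have k : K ⊓ O = ⊥ := by_contra fun r => by
    obtain ⟨p, hp, d⟩ := Nat.exists_prime_and_dvd (mt card_eq_one.1 r)
    have := Fact.mk hp
    obtain ⟨x, hx, ox⟩ := Cauchy hp d
    obtain ⟨P, hP, l⟩ := Sylow_superset (zpowers_le.2 hx.1) (show IsPGroup p (zpowers x) from
      .of_card (n := 1) (by rw [Nat.card_zpowers, ox, pow_one]))
    have cy : IsCyclic (P.map (QuotientGroup.mk' O)) := by
      obtain ⟨n, hn⟩ := IsPGroup.iff_card.1 (hP.pg.map (QuotientGroup.mk' O))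
      have d2 := card_dvd_of_le (map_mono (f := QuotientGroup.mk' O) hP.le)
      rw [hn, j.card] at d2
      refine isCyclic_of_card_dvd_prime (p := p) (hn ▸ (Nat.pow_dvd_pow p (Nat.le_of_not_lt fun l => ?_)).trans
        (pow_one p).dvd)
      have d3 := (Nat.pow_dvd_pow p l).trans d2
      have p2 : ¬ 2 ∣ p := (ho.of_dvd_nat (d.trans (card_dvd_of_le inf_le_right))).not_two_dvd_nat
      have d4 : p ^ 2 ∣ 21945 := (Nat.Coprime.pow 2 3 ((Nat.coprime_primes hp Nat.prime_two).2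
        fun e => p2 (e ▸ dvd_rfl))).dvd_of_dvd_mul_left d3
      have := Nat.le_of_dvd (by decide) d4
      exact (by decide +kernel : ∀ p < 149, 2 ≤ p → ¬ p ^ 2 ∣ 21945) p (by nlinarith) hp.two_le d4
    have ab : IsMulCommutative P := ((QuotientGroup.mk' O).subgroupMap P).isMulCommutative_of_isCyclic_of_ker_le_center
      fun y hy => mem_center_iff.2 fun w => Subtype.ext (mem_cent.1 (cO (hP.le w.2)) y
        ((QuotientGroup.eq_one_iff _).1 (congrArg Subtype.val hy))).symm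
    have := (Transfer.abelian_hall_inf ab hP.le (pnat_coprime hP.pi hP.idx)).le
      ⟨⟨l (mem_zpowers x), pf hx.1⟩, cents_symm cO hx.2⟩
    rw [mem_bot.1 this, orderOf_one] at ox
    exact hp.one_lt.ne ox
  obtain ⟨f⟩ := j.iso
  exact ⟨(MulEquiv.ofBijective ((QuotientGroup.mk' O).subgroupMap K) ⟨(injective_iff_map_eq_one _).2 fun y hy =>
    Subtype.ext (k.le ⟨y.2, (QuotientGroup.eq_one_iff _).1 (congrArg Subtype.val hy)⟩),
      MonoidHom.subgroupMap_surjective _ _⟩).trans f⟩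

theorem main : Cfsg.Spor.IsoJ1 (normalClosure ({t} : Set G)) :=
  h.main' _ Block.odd_card_pPrimeCore ((h.quo _ Block.odd_card_pPrimeCore).core
    ((Op'_top 2).trans (Solv.pPrimeCore_quotient_pPrimeCore 2 G)))

end HY
end Cfsg.Agent.SCl
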