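import Cfsg.Agent.SCl.R2
import Cfsg.Agent.Invol.OddAut

/-! A strongly closed 2-subgroup with a unique involution is a Sylow 2-subgroup of its normal closure (`rank1`). -/
set_option autoImplicit false
set_option linter.unusedSectionVars false
open Subgroup Cfsg.Agent.BG Cfsg.Agent.GW Cfsg.Agent.Sig Cfsg.Agent.Gold Cfsg.Agent.ZD Cfsg.Agent.Invol Cfsg.Agent.ThA
open scoped commutatorElement

namespace Cfsg.Agent.SCl
universe u
variable {G : Type u} [Group G] [Finite G] {D H R S T : Subgroup G} {c g n s x y z : G}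

/-- Alperin's theorem relative to a strongly closed subgroup -/
theorem af (P : Sylow 2 G) (hS : CL S) (l : S ≤ P) (R : Subgroup G → G → Prop)
    (mono : ∀ D E g, D ≤ E → R E g → R D g) (trans : ∀ D g h, R D g → R (cj g D) h → R D (h * g))
    (h1 : ∀ D ≤ (P : Subgroup G), ∀ g ∈ N[D], g ∈ N[S] → R D g)
    (h2 : ∀ D ≤ (P : Subgroup G), ∀ k ∈ N[D], Odd (orderOf k) → (∀ x ∈ D, x⁻¹ * (k * x * k⁻¹) ∈ S) → R D k)
    (hD : D ≤ P) (hg : cj g D ≤ P) : R D g := by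
  refine Transfer.alperin_induction_family P (fun _ => True)
    (fun _ hD => (Transfer.exists_fullyNormalized_conj P (P.2.to_le hD)).imp fun _ h => ⟨trivial, h⟩) R
    (fun D E g h _ _ => mono D E g h) (fun D g h _ _ _ => trans D g h) ?_ D g hD hg
  intro D x _ hD hx _ ih
  have nS := hS.le_norm P.2 l
  by_cases e : S ≤ D
  · exact h1 D hD.1 x hx (hS.norm_of P.2 l ((cj_le_of_norm hx e).trans hD.1))
  have mul : ∀ g h : G, h ∈ N[D] → R D g → R D h → R D (g * h) := fun g h hh k1 k2 =>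
    trans D h g k2 (by rwa [cj_of_norm hh])
  let K : Subgroup G :=
    { carrier := {h | h ∈ N[D] ∧ ∀ q ∈ D, q⁻¹ * (h * q * h⁻¹) ∈ S}
      mul_mem' := fun {a b} ha hb => ⟨mul_mem ha.1 hb.1, fun q hq => by
        convert mul_mem (hb.2 q hq) (ha.2 _ (conj_mem_of_norm hb.1 hq)) using 1; group⟩
      one_mem' := ⟨one_mem _, by simp⟩
      inv_mem' := fun {a} ha => ⟨inv_mem ha.1, fun q hq => by
        convert inv_mem (ha.2 _ (conj_mem_of_norm (inv_mem ha.1) hq)) using 1; group⟩ }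
  have nK : N[D] ≤ N[K] := fun n hn => mem_norm_of_conj fun k hk => ⟨mul_mem (mul_mem hn hk.1) (inv_mem hn),
    fun q hq => by
      have q' := conj_mem_of_norm (inv_mem hn) hq
      convert hS.cl P P.2 l n _ (hk.2 _ q') (hD.1 (conj_mem_of_norm hn (mul_mem (inv_mem q')
        (conj_mem_of_norm hk.1 q')))) using 1
      group⟩
  have hM : K ⊔ D ≤ N[D] := sup_le (fun _ h => h.1) (normG D)
  have nM : N[D] ≤ N[K ⊔ D] := normsY nK le_rfl
  have hE := hD.2.inf_of_le_normalizer hM nM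
  obtain ⟨y, hy, n, hn, rfl⟩ := hE.frattini (nM hx)
  set E := (P : Subgroup G) ⊓ N[D] ⊓ (K ⊔ D)
  have EP : E ≤ P := inf_le_left.trans inf_le_left
  have lt : D < E := by
    obtain ⟨w, hw, w0⟩ := SetLike.exists_of_lt (Transfer.lt_inf_normalizer_of_isPGroup (P.2.to_le (sup_le l hD.1))
      (lt_of_le_of_ne (le_sup_right : D ≤ S ⊔ D) fun r => e (le_sup_left.trans r.ge)))
    obtain ⟨s, hs, d, hd, rfl⟩ := (mem_sup_norml (hD.1.trans nS)).1 hw.1
    have sN : s ∈ N[D] := (N[D].mul_mem_cancel_right (normG D hd)).1 hw.2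
    refine lt_of_le_of_ne (le_inf (le_inf hD.1 (normG D)) le_sup_right) fun r => w0 (mul_mem (r.ge
      ⟨⟨l hs, sN⟩, mem_sup_left ⟨sN, fun q hq => ?_⟩⟩) hd)
    simpa [mul_assoc] using mul_mem (conj_mem_of_norm (inv_mem (nS (hD.1 hq))) hs) (inv_mem hs)
  refine mul y n ((N[D].mul_mem_cancel_left (hM hy)).1 hx) ?_ (mono D E n lt.le (ih E n (Transfer.card_lt_of_lt lt) EP
    ((cj_of_norm hn).le.trans EP)))
  obtain ⟨t, ht, c, hc, rfl⟩ := hE.exists_mul_of_coprime_mem (C := subgroupOfMul {g | g ∈ N[D] ∧ R D g}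
    (fun {g h} hg hh => ⟨mul_mem hg.1 hh.1, mul g h hh.1 hg.2 hh.2⟩) ⟨one_mem _, h1 D hD.1 1 (one_mem _) (one_mem _)⟩)
    (fun g hg ho => ⟨hM hg, h2 D hD.1 g (hM hg) (Nat.coprime_two_right.1 ho) (And.right (show g ∈ K by
      obtain ⟨k, hk, d, hd, rfl⟩ := (mem_sup_norml ((normG D).trans nK)).1 hg
      obtain ⟨i, hi⟩ := two_of_mem P.2 (hD.1 hd)
      have := pow_mul_norm hk (nK (normG D hd)) (2 ^ i)
      rw [hi, inv_one, mul_one] at this
      exact SE.mem_of_two_pow (Nat.coprime_two_right.1 ho) this))⟩) hy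
  exact mul t c hc.1.1 (h1 D hD.1 t ht.1.2 (nS ht.1.1)) hc.1.2

/-- fusion modulo `S` is controlled by `N(S)` -/
theorem ctl (P : Sylow 2 G) (hS : CL S) (l : S ≤ P) (hx : x ∈ (P : Subgroup G)) (hg : g * x * g⁻¹ ∈ (P : Subgroup G)) :
    ∃ n ∈ N[S], (n * x * n⁻¹)⁻¹ * (g * x * g⁻¹) ∈ S :=
  (af P hS l (fun D g => ∃ n ∈ N[S], ∀ x ∈ D, (n * x * n⁻¹)⁻¹ * (g * x * g⁻¹) ∈ S)
    (fun _ _ _ h ⟨n, hn, e⟩ => ⟨n, hn, fun x hx => e x (h hx)⟩)
    (fun _ g h ⟨n, hn, e⟩ ⟨m, hm, e'⟩ => ⟨m * n, mul_mem hm hn, fun x hx => by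
      convert mul_mem (conj_mem_of_norm hm (e x hx)) (e' _ (conj_mem_cj g hx)) using 1; group⟩)
    (fun _ _ g _ hn => ⟨g, hn, fun _ _ => by rw [inv_mul_cancel]; exact one_mem _⟩) (fun _ _ g _ _ e => ⟨1, one_mem _, by simpa using e⟩) (zpowers_le.2 hx)
    (by rw [cj_zpowers]; exact zpowers_le.2 hg)).imp fun _ h => ⟨h.1, h.2 x (mem_zpowers x)⟩

theorem focal (P : Sylow 2 G) (hS : CL S) (l : S ≤ P) (hX : ncl ⊤ S = ⊤) (hH : S ≤ H)
    (h : ∀ n ∈ N[S], ∀ x ∈ (P : Subgroup G), n * x * n⁻¹ ∈ (P : Subgroup G) → x⁻¹ * (n * x * n⁻¹) ∈ H) :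
    (P : Subgroup G) ≤ H := fun t ht => by
  have nO := Transfer.pResidual_normal 2 G
  have k := sylow_inf_pResidual_le_of_fusion P (M := H) fun a ha g hg => by
    obtain ⟨n, hn, e⟩ := ctl P hS l ha hg
    simpa [mul_assoc] using mul_mem (h n hn a ha ((P : Subgroup G).inv_mem_iff.1
      (((P : Subgroup G).mul_mem_cancel_right hg).1 (l e)))) (hH e)
  have k2 : ncl ⊤ S ≤ pResidual 2 G ⊔ S := ncl_le fun g _ x hx => by
    obtain ⟨s, hs, rfl⟩ := mem_cj'.1 hx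
    obtain ⟨o, ho, t, ht, rfl⟩ := Transfer.exists_pResidual_mul_sylow P g
    convert mul_mem_sup (mul_mem ho (nO.conj_mem _ (inv_mem ho) (t * s * t⁻¹)))
      (conj_mem_of_norm (hS.le_norm P.2 l ht) hs) using 1
    group
  obtain ⟨o, ho, s, hs, rfl⟩ := (mem_sup_norml (norm_of_normal _ S)).1 (k2 (hX ▸ mem_top t))
  exact mul_mem (k ⟨((P : Subgroup G).mul_mem_cancel_right (l hs)).1 ht, ho⟩) (hH hs)

/-- `S` has at most one involution -/
def U1 {G : Type*} [Group G] (S : Subgroup G) : Prop := ∀ x ∈ S, ∀ y ∈ S, orderOf x = 2 → orderOf y = 2 → x = y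

theorem U1.mono (h : U1 S) (l : R ≤ S) : U1 R := fun x hx y hy => h x (l hx) y (l hy)

theorem U1.cq (h : U1 S) (h2 : IsPGroup 2 S) :
    IsCyclic S ∨ ∃ m : ℕ, 1 ≤ m ∧ Nonempty (S ≃* QuaternionGroup (2 ^ m)) :=
  SE.cyclic_or_quaternion h2 fun ⟨x, hx, y, hy, x2, y2, ne, _⟩ => ne (h x hx y hy x2 y2)

theorem U1.cent (h : U1 S) (hc : c ∈ S) (cc : c * c = 1) : c ∈ C[S] := mem_cent.2 fun s hs => by
  rcases eq_or_ne c 1 with rfl | c1
  · simp
  have := orderOf_two_iff.2 ⟨cc, c1⟩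
  exact mul_inv_eq_iff_eq_mul.1 (h _ (mul_mem (mul_mem hs hc) (inv_mem hs)) c hc (SE.conj_two this s) this)

theorem U1.sq (h : U1 S) (h2 : IsPGroup 2 S) (l : R ≤ S) (nc : ¬ IsCyclic R) (hc : c ∈ S) (cc : c ∈ C[R]) : c * c = 1 := by
  have l' : R ⊔ zpowers c ≤ S := sup_le l (zpowers_le.2 hc)
  obtain ⟨m, hm, ⟨e⟩⟩ := ((h.mono l').cq (h2.to_le l')).resolve_left fun r => nc (cyclicS le_sup_left r)
  have k : ∀ y : QuaternionGroup (2 ^ m), y * e ⟨c, mem_sup_right (mem_zpowers c)⟩ =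
      e ⟨c, mem_sup_right (mem_zpowers c)⟩ * y := fun y => by
    obtain ⟨y, rfl⟩ := e.surjective y
    rw [← map_mul, ← map_mul]
    exact congrArg e (Subtype.ext (mem_cent.1 (cents_symm (sup_le (cents_symm (zpowers_le.2 cc))
      (abelian_zpowers c).cent) (mem_zpowers c)) _ y.2))
  suffices e ⟨c, mem_sup_right (mem_zpowers c)⟩ * e ⟨c, mem_sup_right (mem_zpowers c)⟩ = 1 by
    rw [← map_mul, map_eq_one_iff _ e.injective] at this
    exact congrArg Subtype.val this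
  generalize e ⟨c, mem_sup_right (mem_zpowers c)⟩ = w at k
  rcases w with i | i
  · have := k (.xa 0)
    simp only [QuaternionGroup.a_mul_xa, QuaternionGroup.xa_mul_a, QuaternionGroup.xa.injEq] at this
    rw [QuaternionGroup.a_mul_a, show i + i = 0 by linear_combination this, QuaternionGroup.one_def]
  · have := k (.a 1)
    simp only [QuaternionGroup.a_mul_xa, QuaternionGroup.xa_mul_a, QuaternionGroup.xa.injEq] at this
    have := Nat.le_of_dvd two_pos ((ZMod.natCast_eq_zero_iff 2 (2 * 2 ^ m)).1 (by push_cast; linear_combination -this))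
    have := Nat.pow_le_pow_right two_pos hm
    omega

theorem U1.quat (h : U1 S) (h2 : IsPGroup 2 S) (hn : n ∈ N[S]) (ho : Odd (orderOf n)) (hc : n ∉ C[S]) :
    ∃ i j, Quat S i j := by
  obtain ⟨c, hc'⟩ : ∃ c : S, (zpowers c).index ∣ 2 := by
    rcases h.cq h2 with ⟨c, e⟩ | ⟨m, -, ⟨e⟩⟩
    · exact ⟨c, by rw [show zpowers c = ⊤ from eq_top_iff.2 fun x _ => e x, index_top]; exact one_dvd _⟩
    · refine ⟨e.symm (.a 1), dvd_of_eq ?_⟩
      have := (zpowers (e.symm (.a 1))).card_mul_index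
      rw [Nat.card_zpowers, MulEquiv.orderOf_eq, QuaternionGroup.orderOf_a_one, Nat.card_congr e.toEquiv,
        Nat.card_eq_fintype_card, QuaternionGroup.card] at this
      exact Nat.eq_of_mul_eq_mul_left (show 0 < 2 * 2 ^ m by positivity) (by omega)
  rcases four_or_quat_of_cyclic_index h2 hc' (oddEnd_conjEnd S hn ho) (by_contra fun r => hc (mem_cent.2 fun s hs =>
    (mul_inv_eq_iff_eq_mul.1 (congrArg Subtype.val (by_contra fun e => r ⟨⟨s, hs⟩, e⟩ :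
      conjEnd S hn ⟨s, hs⟩ = ⟨s, hs⟩))).symm)) with r | ⟨⟨e⟩⟩
  · have : Fintype S := Fintype.ofFinite S
    have k : ∀ x : S, x ≠ 1 → orderOf (x : G) = 2 := fun x x1 =>
      orderOf_two_iff.2 ⟨congrArg Subtype.val (IsKleinFour.mul_self x), fun e => x1 (Subtype.ext e)⟩
    obtain ⟨x, y, w, k1, k2, k3⟩ := Fintype.two_lt_card_iff.1 (show 2 < Fintype.card S by
      rw [← Nat.card_eq_fintype_card, r.card_four]; omega)
    have k4 : ∀ x y : S, x ≠ y → x = 1 ∨ y = 1 := fun x y e => by_contra fun r => e (Subtype.ext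
      (h x x.2 y y.2 (k x fun e => r (.inl e)) (k y fun e => r (.inr e))))
    rcases k4 x y k1 with rfl | rfl
    · rcases k4 y w k3 with rfl | rfl <;> simp_all
    · rcases k4 x w k2 with rfl | rfl <;> simp_all
  · exact exists_quat e

theorem U1.dec (P : Sylow 2 G) (l : (P : Subgroup G) ≤ N[S]) (h : ∀ n ∈ N[S], Odd (orderOf n) → n ∈ C[S])
    (hn : n ∈ N[S]) : ∃ t ∈ (P : Subgroup G), ∃ c ∈ C[S], n = t * c := by
  obtain ⟨t, ht, c, hc, e⟩ := (Transfer.isSylowIn_of_sylow_le P l).exists_mul_of_coprime_mem (C := C[S])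
    (fun g hg ho => h g hg (Nat.coprime_two_right.1 ho)) hn
  exact ⟨t, ht, c, hc.1, e⟩

theorem stepA (P : Sylow 2 G) (hS : CL S) (l : S ≤ P) (hX : ncl ⊤ S = ⊤) (h : U1 S) :
    (P : Subgroup G) ≤ S ⊔ P ⊓ C[S] := by
  have nS := hS.le_norm P.2 l
  have nC : N[S] ≤ N[C[S]] := norms_cent le_rfl
  refine (Phi_nongen (sup_le l inf_le_left) ((focal P hS l hX (H := (S ⊔ P ⊓ C[S]) ⊔ ⁅(P : Subgroup G), P⁆)
    (le_sup_left.trans le_sup_left) fun n hn x hx e => ?_).trans (sup_le_sup_left (der1_sub_Phi (pgroup_nil P.2)) _))).ge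
  have wP := mul_mem (inv_mem hx) e
  by_cases r : ∀ n ∈ N[S], Odd (orderOf n) → n ∈ C[S]
  · obtain ⟨t, ht, c, hc, rfl⟩ := U1.dec P nS r hn
    have k1 := commutator_mem_commutator (inv_mem hx) ht
    have k2 : x⁻¹ * (t * c * x * (t * c)⁻¹) = ⁅x⁻¹, t⁆ * (t * (x⁻¹ * c * x⁻¹⁻¹ * c⁻¹) * t⁻¹) := by group
    rw [k2] at wP ⊢
    exact mul_mem (mem_sup_right k1) (mem_sup_left (mem_sup_right ⟨((P : Subgroup G).mul_mem_cancel_left (der_sub _ k1)).1 wP,
      conj_mem_of_norm (nC (nS ht)) (mul_mem (conj_mem_of_norm (nC (nS (inv_mem hx))) hc) (inv_mem hc))⟩))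
  push Not at r
  obtain ⟨m, hm, ho, hc⟩ := r
  obtain ⟨i, j, q⟩ := h.quat hS.pg hm ho hc
  obtain ⟨ψ, -, hk⟩ := (threePt_quat q).exists_hom
  obtain ⟨a, ha⟩ := two_of_mem P.2 wP
  have k : (⟨x, nS hx⟩⁻¹ * (⟨n, hn⟩ * ⟨x, nS hx⟩ * ⟨n, hn⟩⁻¹) : N[S]) ∈ ψ.ker := by
    refine Two.eq_one ⟨a, by rw [← map_pow]; exact (congrArg ψ (Subtype.ext ha)).trans (map_one ψ)⟩
      (Odd.of_dvd_nat (by decide : Odd 3) (orderOf_dvd_of_pow_eq_one ?_))
    simp only [map_mul, map_inv]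
    generalize ψ ⟨x, nS hx⟩ = σ
    generalize ψ ⟨n, hn⟩ = τ
    revert σ τ; decide +kernel
  rw [hk] at k
  obtain ⟨s, hs, c, hc, e'⟩ := (mem_sup_normr (norms_cent (normG S))).1 (show x⁻¹ * (n * x * n⁻¹) ∈ S ⊔ C[S] from k)
  rw [e'] at wP ⊢
  exact mem_sup_left (mul_mem_sup hs ⟨((P : Subgroup G).mul_mem_cancel_left (l hs)).1 wP, hc⟩)

theorem cyc_cent (h2 : IsPGroup 2 R) (hc : IsCyclic R) (hn : n ∈ N[R]) (ho : Odd (orderOf n)) : n ∈ C[R] := by
  obtain ⟨c, rfl⟩ := cyclicP.1 hc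
  obtain ⟨i, hi⟩ := two_of_mem h2 (mem_zpowers c)
  rw [C_zpowers, mem_cent1]
  exact mul_inv_eq_iff_eq_mul.1 (conj_eq_of_odd_of_mem_zpowers ho hi (conj_mem_of_norm hn (mem_zpowers c)))

theorem stepB (P : Sylow 2 G) (hS : CL S) (l : S ≤ P) (hA : (P : Subgroup G) ≤ S ⊔ P ⊓ C[S]) (h : U1 S) :
    CL ((P : Subgroup G) ⊓ C[S]) :=
  cl_of_sylow (sylowIn_top P) ⟨inf_le_left, fun x hx g hg => af P hS l
    (fun D g => ∀ u ∈ D, u ∈ (P : Subgroup G) ⊓ C[S] → g * u * g⁻¹ ∈ (P : Subgroup G) ⊓ C[S])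
    (fun _ _ _ h e u hu => e u (h hu))
    (fun _ g k e e' u hu r => by simpa [mul_assoc] using e' _ (conj_mem_cj g hu) (e u hu r))
    (fun D hD g hg hn u hu r => ⟨hD (conj_mem_of_norm hg hu), conj_mem_of_norm (norms_cent le_rfl hn) r.2⟩)
    (fun D hD k hk ho e u hu r => by
      have nR : k ∈ N[D ⊓ S] := mem_norm_of_conj fun y hy => ⟨conj_mem_of_norm hk hy.1,
        hS.cl P P.2 l k y hy.2 (hD (conj_mem_of_norm hk hy.1))⟩
      have uD := conj_mem_of_norm hk hu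
      by_cases cy : IsCyclic (D ⊓ S : Subgroup G)
      · obtain ⟨i, hi⟩ := two_of_mem hS.pg (e u hu)
        rwa [conj_eq_of_odd_of_mul ho hi (conj_eq_of_cent (cyc_cent (hS.pg.to_le inf_le_right) cy nR ho)
          ⟨D.mul_mem (D.inv_mem hu) uD, e u hu⟩) (mul_inv_cancel_left _ _).symm]
      obtain ⟨s, hs, b, hb, e'⟩ := (mem_sup_norml (inf_le_right.trans (cents_norm le_rfl))).1 (hA (hD uD))
      have k1 := conj_mem_of_norm (norms_cent le_rfl nR) (centS inf_le_right r.2)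
      rw [e'] at k1 ⊢
      exact mul_mem ⟨l hs, h.cent hs (h.sq hS.pg inf_le_right cy hs
        ((C[D ⊓ S].mul_mem_cancel_right (centS inf_le_right hb.2)).1 k1))⟩ hb)
    (zpowers_le.2 hx.1) (by rw [cj_zpowers]; exact zpowers_le.2 hg) x (mem_zpowers x) hx⟩

theorem q0 (hO : Op' 2 (⊤ : Subgroup G) = ⊥) (P : Sylow 2 G) (hS : CL S) (l : S ≤ P) (hX : ncl ⊤ S = ⊤) (h : U1 S) :
    (P : Subgroup G) ≤ S := by
  have nS := hS.le_norm P.2 l
  have hA := stepA P hS l hX h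
  have zs : ∀ a ∈ S, (∀ k : ℕ, ∀ g : G, g * a ^ k * g⁻¹ ∈ S → g * a ^ k * g⁻¹ = a ^ k) → a ∈ C[⊤] := fun a ha e =>
    zs0 hO P.2 (by rw [top_inf_eq]; exact sylowIn_top P) (l ha) (normG ⊤ (mem_top a)) fun k g _ r =>
      e k g (hS.cl P P.2 l g _ (pow_mem ha k) r)
  by_cases cy : IsCyclic S
  · have ab := (cyclic_abelian cy).cent
    have : S ≤ C[⊤] := fun a ha => zs a ha fun k g e => by
      obtain ⟨m, hm, hn⟩ := hS.trans (K := C1[g * a ^ k * g⁻¹]) (g := g) (ab.trans (cent_le_cent1 e)) (by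
        rw [C1_conj]; exact cj_mono g (ab.trans (cent_le_cent1 (pow_mem ha k))))
      obtain ⟨t, ht, c, hc, e'⟩ := U1.dec P nS (fun n hn => cyc_cent hS.pg cy hn) hn
      have := conj_eq_of_cent (e' ▸ mul_mem (hA.trans (sup_le ab inf_le_right) ht) hc) (pow_mem ha k)
      rw [show m * g * a ^ k * (m * g)⁻¹ = m * (g * a ^ k * g⁻¹) * m⁻¹ by group, mem_cent1.1 hm,
        mul_inv_cancel_right] at this
      exact this
    exact le_top.trans (hX.ge.trans (ncl_le_of_norm le_rfl (cents_norm (cents_symm this))))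
  have hB := stepB P hS l hA h
  have z1 : S ⊓ (P ⊓ C[S]) ≤ C[⊤] := fun a ha => zs a ha.1 fun k g e => by
    have aa : a ^ k * a ^ k = 1 := h.sq hS.pg le_rfl cy (pow_mem ha.1 k) (pow_mem ha.2.2 k)
    rcases eq_or_ne (a ^ k) 1 with r | r
    · simp [r]
    have := orderOf_two_iff.2 ⟨aa, r⟩
    exact h _ e _ (pow_mem ha.1 k) (SE.conj_two this g) this
  have k := thA hS hB (cents_symm inf_le_right)
  rw [hO, sup_bot_eq, hX, ncl_of_norm (cents_norm (cents_symm z1))] at k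
  refine focal P hS l hX le_rfl fun n hn x hx _ => ?_
  obtain ⟨b, hb, s, hs, rfl⟩ := (mem_sup_normr (inf_le_right.trans (cents_norm le_rfl))).1 (sup_comm S _ ▸ hA hx)
  have := (k (commutator_mem_commutator (mem_top n) (le_ncl _ _ (inv_mem hb)))).1
  convert mul_mem (mul_mem (S.inv_mem hs) (S.inv_mem this)) (conj_mem_of_norm hn hs) using 1
  group

theorem q1 (hT : SylowIn 2 T ⊤) (hS : CL S) (l : S ≤ T) (hX : ncl ⊤ S = ⊤) (h : U1 S) : T ≤ S := by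
  have nO : Op' 2 ⊤ ⊴ (⊤ : Subgroup G) := pcore_normal _ _
  have ho := odd_Op' (⊤ : Subgroup G)
  generalize hO : Op' 2 (⊤ : Subgroup G) = O at nO ho
  have n : ∀ {X : Subgroup G}, X ≤ N[O] := fun {_} => le_top.trans nO.norm
  have n' : ∀ x : G, x ∈ N[O] := fun x => n (mem_top x)
  have k2 : ∀ s ∈ S, orderOf (coset O s) = 2 → orderOf s = 2 := fun s hs => by
    rw [orderOf_two_iff, orderOf_two_iff, ← coset_mul (n' s) (n' s)]
    exact fun r => ⟨(two_of_mem hS.pg (mul_mem hs hs)).eq_one (odd_orderOf_of_mem ho ((coset_eq_one (n' _)).1 r.1)),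
      fun e => r.2 (by rw [e, coset_one])⟩
  have hT' := quotient_pHall n hT
  rw [quo_top nO] at hT'
  obtain ⟨P, e⟩ := sylow_of_sylowIn_top hT'
  have := q0 (S := S /ᵍ O) (by rw [← quo_top nO, ← hO]; exact trivg_pcore_quotient _ ⊤) P (hS.quo n)
    (e ▸ quotientS _ l) (by rw [← quo_top nO, ← quotient_ncl n le_top, hX]) fun x hx y hy x2 y2 => by
      obtain ⟨x, hx', -, rfl⟩ := mem_quotient_iff.1 hx
      obtain ⟨y, hy', -, rfl⟩ := mem_quotient_iff.1 hy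
      rw [h x hx' y hy' (k2 x hx' x2) (k2 y hy' y2)]
  exact fun x hx => le_of_quo (X := O) nO ho hT.pg l hx (this (e ▸ mem_quotient (n' x) hx))

theorem rank1 (hT : SylowIn 2 T ⊤) (hS : CL S) (l : S ≤ T) (h : U1 S) : T ⊓ ncl ⊤ S ≤ S := fun x hx => by
  have hT' := pHall_subgroupOf le_rfl (Sylow_setI_normal (Gold.ncl_normal (le_top : S ≤ ⊤)) hT)
  rw [subgroupOf_self] at hT'
  refine q1 hT' (hS.subgroupOf (le_ncl ⊤ S)) (fun y hy => ⟨y.2, l hy⟩) (eq_top_iff.2 fun y _ =>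
    (mem_map_iff_mem (ncl ⊤ S).subtype_injective).1 (Gold.ncl_le (fun g _ => ?_) y.2))
    (fun a ha b hb a2 b2 => Subtype.ext (h a ha b hb (by rwa [orderOf_coe]) (by rwa [orderOf_coe])))
    (show (⟨x, hx.2⟩ : ncl ⊤ S) ∈ _ from ⟨hx.2, hx.1⟩)
  obtain ⟨k, hk, hn⟩ := hS.trans (le_ncl ⊤ S) (cj_le_ncl (mem_top g))
  intro w hw
  have := conj_mem_cj k hw
  rw [← cj_mul, cj_of_norm hn] at this
  exact ⟨_, cj_le_ncl (mem_top (⟨k, hk⟩ : ncl ⊤ S)⁻¹) (conj_mem_cj _ (show (⟨_, le_ncl ⊤ S this⟩ : ncl ⊤ S) ∈ _ from this)),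
    by simp [mul_assoc]⟩

end Cfsg.Agent.SCl
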