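import Cfsg.Agent.SCl.DH

/-! Groups in which a D-group is the centraliser of its central involutions (`DZ`, `DZ.res`). -/
set_option autoImplicit false
set_option linter.unusedSectionVars false
open Subgroup Cfsg.Agent.BG Cfsg.Agent.GW Cfsg.Agent.Sig Cfsg.Agent.Gold Cfsg.Agent.ZD Cfsg.Agent.Invol Cfsg.Agent.ThA
open scoped commutatorElement

namespace Cfsg.Agent.SCl
universe u
variable {G : Type u} [Group G] [Finite G] {A H L S T V Z : Subgroup G} {a b g j s w x y z : G}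

theorem core_simple (hO : Op' 2 (⊤ : Subgroup G) = ⊥) (pc : PC G (G ⧸ H) (ZI S)) (l : S ≤ H) (ne : H ≠ ⊤)
    (hr : SE.Rank2 S) : ∃ L : Subgroup G, L ⊴ ⊤ ∧ IsSimpleGroup L ∧ ¬ IsMulCommutative L ∧
      IsStronglyEmbedded (H.subgroupOf L) ∧ ∀ t, orderOf t = 2 → (t ∈ L ↔ t ∈ ZI S) := by
  obtain ⟨x, hx, y, hy, x2, y2, hne, -⟩ := hr
  have k : ∀ x ∈ S, orderOf x = 2 → x ∈ ZI S := fun x h1 h2 => ⟨h2, 1, by simpa⟩
  obtain ⟨g, hg⟩ : ∃ g, g ∉ H := by_contra fun e => ne (eq_top_iff.2 fun g _ => by_contra fun r => e ⟨g, r⟩)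
  have ha := SE.smul_pt.2 (l hx)
  have hz' := pc.conj x (k x hx x2) g
  have ha' : (g * x * g⁻¹) • SE.pt H ≠ SE.pt H := fun e => hg (SE.smul_pt.1 (pc.eq_of_conj (k x hx x2) ha e))
  have loc := fun t => pc.loc (t := t) (k x hx x2) ha hz' ha'
  have se := pc.se (k x hx x2) ha hz' ha'
  rw [SE.St_pt] at se
  set L := closure (ZI S) with hL
  have nL : L ⊴ ⊤ := ⟨le_top, fun g _ => mem_norm_of_cj_le (by
    rw [cj_le_iff, hL, closure_le]
    exact fun z hz => mem_cj.2 (by simpa using subset_closure (pc.conj z hz g)))⟩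
  have hI : ∀ z ∈ S, orderOf z = 2 → z ∈ L := fun z h1 h2 => subset_closure (k z h1 h2)
  have big : ∀ N : Subgroup L, N.Normal → N ≠ ⊥ → N = ⊤ := fun N hN h0 => by
    obtain ⟨t, ht, t2⟩ : ∃ t ∈ N, orderOf t = 2 := by_contra fun r => h0 (by
      have : N.map L.subtype ≤ Op' 2 L := le_Op' ⟨map_subtype_le _, fun g hg => mem_norm_of_conj (by
        rintro _ ⟨n, hn, rfl⟩; exact mem_map_of_mem L.subtype (hN.conj_mem n hn ⟨g, hg⟩))⟩ (by
          rw [card_map_of_injective L.subtype_injective]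
          exact odd_card_iff.2 fun t ht e => r ⟨t, ht, e⟩)
      exact (map_eq_bot_iff_of_injective _ L.subtype_injective).1 (le_bot_iff.1 (hO ▸ this.trans (pcoreS_normal _ nL))))
    have : L ≤ N.map L.subtype := (closure_le _).2 fun z hz => by
      obtain ⟨c, e⟩ := isConj_iff.1 (SE.isConj se t2 (b := ⟨z, subset_closure hz⟩) (by rw [← orderOf_coe]; exact hz.1))
      exact ⟨_, hN.conj_mem t ht c, congrArg Subtype.val e⟩
    exact eq_top_iff.2 fun z _ => (mem_map_iff_mem L.subtype_injective).1 (this z.2)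
  have : Nontrivial L := ⟨⟨⟨x, hI x hx x2⟩, ⟨y, hI y hy y2⟩, fun e => hne (congrArg Subtype.val e)⟩⟩
  refine ⟨L, nL, ⟨fun N hN => (eq_or_ne N ⊥).imp_right (big N hN)⟩, fun ab => ?_, se,
    fun t t2 => ⟨fun ht => loc t ht t2, fun ht => subset_closure ht⟩⟩
  obtain ⟨c, e⟩ := isConj_iff.1 (SE.isConj se (a := ⟨x, hI x hx x2⟩) (b := ⟨y, hI y hy y2⟩)
    (by rw [← orderOf_coe]; exact x2) (by rw [← orderOf_coe]; exact y2))
  rw [mul_comm' c, mul_inv_cancel_right] at e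
  exact hne (congrArg Subtype.val e)

/-- `H` is a D-group witnessed by `A` -/
structure DG {G : Type*} [Group G] (H A : Subgroup G) : Prop where
  le : A ≤ H
  ex : ∃ w ∈ H, w ∉ A
  sq : ∀ x ∈ H, x ∉ A → x * x = 1

namespace DG
variable (h : DG H A)
include h

theorem nm (hx : x ∈ H) (x0 : x ∉ A) (ha : a ∈ A) : x * a ∈ H ∧ x * a ∉ A :=
  ⟨mul_mem hx (h.le ha), mt (A.mul_mem_cancel_right ha).1 x0⟩

theorem inv (hx : x ∈ H) (x0 : x ∉ A) (ha : a ∈ A) : x * a * x⁻¹ = a⁻¹ := by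
  rw [inv_eq_of_mul_self (h.sq x hx x0)]
  exact eq_inv_of_mul_eq_one_left (by rw [mul_assoc]; exact h.sq _ (h.nm hx x0 ha).1 (h.nm hx x0 ha).2)

theorem comm (ha : a ∈ A) (hb : b ∈ A) : Commute a b :=
  let ⟨_, hw, w0⟩ := h.ex
  (abelian_of_inv fun _ hx => h.inv hw w0 hx).comm ha hb

theorem cent (ha : a ∈ A) (aa : a * a = 1) : a ∈ C[H] := mem_cent.2 fun x hx => by
  by_cases x0 : x ∈ A
  · exact h.comm x0 ha
  · exact mul_inv_eq_iff_eq_mul.1 ((h.inv hx x0 ha).trans (inv_eq_of_mul_self aa))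

theorem sqA (hx : x ∈ H) : x * x ∈ A := by
  by_cases x0 : x ∈ A
  exacts [mul_mem x0 x0, h.sq x hx x0 ▸ one_mem _]

theorem odd (hx : x ∈ H) (ho : Odd (orderOf x)) : x ∈ A := mem_of_sq_mem ho (h.sqA hx)

theorem pj (hx : x ∈ H) (hy : y ∈ H) (x2 : x * x ≠ 1) (y2 : y * y ≠ 1) : Commute x y :=
  h.comm (by_contra fun r => x2 (h.sq x hx r)) (by_contra fun r => y2 (h.sq y hy r))

theorem gen : H ≤ Subgroup.closure {x : G | x * x = 1} := fun x hx => by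
  by_cases x0 : x ∈ A
  · obtain ⟨w, hw, w0⟩ := h.ex
    simpa using mul_mem (inv_mem (Subgroup.subset_closure (h.sq w hw w0) : w ∈ Subgroup.closure {x : G | x * x = 1}))
      (Subgroup.subset_closure (h.sq _ (h.nm hw w0 x0).1 (h.nm hw w0 x0).2))
  · exact Subgroup.subset_closure (h.sq x hx x0)

theorem sol : Group.IsSolvable H := by
  have c : ⁅H, H⁆ ≤ A := commutator_le.2 fun x hx y hy => by
    rw [show ⁅x, y⁆ = x * x * (x⁻¹ * y * (x⁻¹ * y)) * (y⁻¹ * y⁻¹) by simp [commutatorElement_def, mul_assoc]]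
    exact mul_mem (mul_mem (h.sqA hx) (h.sqA (mul_mem (inv_mem hx) hy))) (h.sqA (inv_mem hy))
  exact series_sol (sub_der1_normal c h.le) (abelian_sol ⟨⟨fun a b => Subtype.ext (h.comm a.2 b.2)⟩⟩)
    (abelian_sol (sub_der1_abelian c))

theorem alt : (∀ x ∈ H, x * x = 1) ∨ ∀ x ∈ H, ∀ y ∈ H, x ∉ A → y ∉ A → x * y ∈ A := by
  refine or_iff_not_imp_right.2 fun r x hx => ?_
  push Not at r
  obtain ⟨u, hu, v, hv, u0, v0, r⟩ := r
  by_cases x0 : x ∈ A
  · have := h.inv (mul_mem hu hv) r x0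
    rw [show u * v * x * (u * v)⁻¹ = u * (v * x * v⁻¹) * u⁻¹ by group, h.inv hv v0 x0, h.inv hu u0 (inv_mem x0)] at this
    rw [← mul_inv_eq_one.2 this, inv_inv]
  · exact h.sq x hx x0

theorem map {X : Type*} [Group X] (φ : G →* X) (hk : Odd #φ.ker) : DG (H.map φ) (A.map φ) := by
  refine ⟨map_mono h.le, ?_, ?_⟩
  · obtain ⟨w, hw, w0⟩ := h.ex
    refine ⟨_, mem_map_of_mem φ hw, fun ⟨a, ha, e⟩ => (h.nm hw w0 (inv_mem ha)).2 (h.odd (h.nm hw w0 (inv_mem ha)).1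
      (odd_of_mem hk (by simp [MonoidHom.mem_ker, e])))⟩
  · rintro _ ⟨x, hx, rfl⟩ r
    rw [← map_mul, h.sq x hx fun e => r (mem_map_of_mem φ e), map_one]

end DG

/-- `H` is the centraliser of the involutions of `Z` -/
structure DZ {G : Type*} [Group G] (H A Z : Subgroup G) : Prop extends DG H A where
  ZH : Z ≤ H
  zz : ∀ z ∈ Z, z * z = 1
  cen : ∀ z ∈ Z, z ≠ 1 → C1[z] = H
  uq : ∀ a ∈ A, a * a = 1 → a ∈ Z
  alt : (H ≤ Z ∧ SE.Rank2 Z) ∨ (Z ≤ A ∧ Z ≠ ⊥ ∧ ∀ x ∈ H, ∀ y ∈ H, x ∉ A → y ∉ A → x * y ∈ A)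
  cl : SE.Rank2 Z → ∀ z ∈ Z, ∀ g, g * z * g⁻¹ ∈ H → g * z * g⁻¹ ∈ Z

/-- the conclusion for core-free groups -/
def Res (X : Type*) [Group X] : Prop := ∃ (C : Subgroup X) (_ : C.Normal), #C ∣ 2 ∧ PL (X ⧸ C)

theorem C1_mk {O : Subgroup G} [O.Normal] (ho : Odd #O) (zz : z * z = 1) :
    C1[QuotientGroup.mk' O z] = C1[z].map (QuotientGroup.mk' O) := by
  rw [← C_zpowers, ← C_zpowers, ← MonoidHom.map_zpowers]
  exact Solv.centralizer_map_mk' (cop_invol ho zz).symm (.inr (odd_sol ho))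

namespace DZ
variable (h : DZ H A Z)
include h

theorem two (hz : z ∈ Z) (z1 : z ≠ 1) : orderOf z = 2 := orderOf_two_iff.2 ⟨h.zz z hz, z1⟩

theorem cz (hz : z ∈ Z) (hx : x ∈ H) : Commute x z := by
  rcases eq_or_ne z 1 with rfl | z1
  exacts [Commute.one_right _, mem_cent1.1 ((h.cen z hz z1).ge hx)]

theorem quo {O : Subgroup G} [O.Normal] (ho : Odd #O) :
    DZ (H.map (QuotientGroup.mk' O)) (A.map (QuotientGroup.mk' O)) (Z.map (QuotientGroup.mk' O)) := by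
  have hk : Odd #(QuotientGroup.mk' O).ker := by rwa [QuotientGroup.ker_mk']
  have k1 : ∀ z ∈ Z, QuotientGroup.mk' O z = 1 → z = 1 := fun z hz e =>
    eq_one_of_odd_sq (odd_of_mem hk e) (h.zz z hz)
  have r2 : SE.Rank2 (Z.map (QuotientGroup.mk' O)) ↔ SE.Rank2 Z := ⟨by
    rintro ⟨_, ⟨x, hx, rfl⟩, _, ⟨y, hy, rfl⟩, x2, y2, ne, -⟩
    exact ⟨x, hx, y, hy, h.two hx fun e => ne_one_of x2 (by rw [e, map_one]),
      h.two hy fun e => ne_one_of y2 (by rw [e, map_one]), fun e => ne (by rw [e]), h.cz hy (h.ZH hx)⟩,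
    fun ⟨x, hx, y, hy, x2, y2, ne, c⟩ => ⟨_, mem_map_of_mem _ hx, _, mem_map_of_mem _ hy, SE.orderOf_map_two _ hk x2,
      SE.orderOf_map_two _ hk y2, fun e => ne (mul_inv_eq_one.1 (k1 _ (mul_mem hx (inv_mem hy)) (by
        rw [map_mul, map_inv, e, mul_inv_cancel]))), c.map _⟩⟩
  refine ⟨h.toDG.map _ hk, map_mono h.ZH, ?_, ?_, ?_, h.alt.imp (fun r => ⟨map_mono r.1, r2.2 r.2⟩)
    fun r => ⟨map_mono r.1, fun e => r.2.1 (eq_bot_iff.2 fun z hz => k1 z hz (e.le (mem_map_of_mem _ hz))), ?_⟩,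
    fun r => ?_⟩
  · rintro _ ⟨z, hz, rfl⟩
    rw [← map_mul, h.zz z hz, map_one]
  · rintro _ ⟨z, hz, rfl⟩ z1
    rw [C1_mk ho (h.zz z hz), h.cen z hz fun e => z1 (by rw [e, map_one])]
  · rintro _ ⟨a, ha, rfl⟩ e
    obtain ⟨n, hn⟩ := odd_of_mem hk (show a * a ∈ _ from (map_mul _ _ _).trans e)
    refine ⟨_, h.uq _ (pow_mem ha (2 * n + 1)) (by rw [← (Commute.refl a).mul_pow, ← hn, pow_orderOf_eq_one]), ?_⟩
    rw [map_pow, pow_succ, pow_mul, sq, e, one_pow, one_mul]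
  · rintro _ ⟨x, hx, rfl⟩ _ ⟨y, hy, rfl⟩ x0 y0
    exact ⟨_, r.2.2 x hx y hy (fun e => x0 (mem_map_of_mem _ e)) fun e => y0 (mem_map_of_mem _ e), map_mul _ _ _⟩
  · replace r := r2.1 r
    have OH : O ≤ H := by
      obtain ⟨x, hx, y, hy, x2, y2, ne, hc⟩ := r
      have k : ∀ z ∈ Z, orderOf z = 2 → O ⊓ C1[z] ≤ H := fun z hz z2 => inf_le_right.trans (h.cen z hz (ne_one_of z2)).le
      exact SE.le_of_four x2 y2 ne hc ho (norm_of_normal _ ⊤ trivial) (norm_of_normal _ ⊤ trivial) (k x hx x2) (k y hy y2)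
        (k _ (mul_mem hx hy) (orderOf_mul_of_commute (mul_self_of x2) (mul_self_of y2) hc ne))
    rintro _ ⟨z, hz, rfl⟩ g e
    obtain ⟨g, rfl⟩ := QuotientGroup.mk'_surjective O g
    rw [← map_inv, ← map_mul, ← map_mul] at e ⊢
    refine mem_map_of_mem _ (h.cl r z hz g ?_)
    rwa [← mem_comap, comap_map_eq, QuotientGroup.ker_mk', sup_eq_left.2 OH] at e

theorem resB (hO : oddCore G = ⊥) (hn : ¬ Group.IsSolvable G) (nr : ¬ SE.Rank2 Z) : Res G := by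
  obtain ⟨ZA, Z0, idx⟩ := h.alt.resolve_left fun r => nr r.2
  obtain ⟨j, hj, j1⟩ := trivgPn.1 Z0
  have j2 := h.two hj j1
  have cj' := h.cen j hj j1
  have u : ∀ a ∈ A, a * a = 1 → a = 1 ∨ a = j := fun a ha aa => or_iff_not_imp_left.2 fun a1 => by_contra fun e =>
    nr ⟨a, h.uq a ha aa, j, hj, orderOf_two_iff.2 ⟨aa, a1⟩, j2, e, h.cz hj (h.le ha)⟩
  have cw : ∀ w ∈ H, w ∉ A → ∀ y ∈ H, Commute y w → y = 1 ∨ y = j ∨ y = w ∨ y = j * w := fun w hw w0 y hy c => by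
    have k : ∀ a ∈ A, Commute a w → a = 1 ∨ a = j := fun a ha c => u a ha (by
      have := h.inv hw w0 ha
      rw [← c.eq, mul_inv_cancel_right] at this
      rw [← mul_inv_eq_one.2 this, inv_inv])
    by_cases y0 : y ∈ A
    · exact (k y y0 c).imp_right .inl
    rcases k _ (idx y hy w hw y0 w0) (c.mul_left (Commute.refl w)) with e | e
    · exact .inr (.inr (.inl (by rw [eq_inv_of_mul_eq_one_left e, inv_eq_of_mul_self (h.sq w hw w0)])))
    · exact .inr (.inr (.inr (by rw [← e, mul_assoc, h.sq w hw w0, mul_one])))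
  obtain ⟨w, hw, w0⟩ := h.ex
  have w1 : w ≠ 1 := fun e => w0 (e ▸ one_mem _)
  have w2 := orderOf_two_iff.2 ⟨h.sq w hw w0, w1⟩
  have jw : j ≠ w := fun e => w0 (e ▸ ZA hj)
  obtain ⟨V, hV, jV, wV⟩ := four_cl j2 w2 (h.cz hj hw).symm jw
  obtain ⟨S, VS⟩ := (isPGroup_of_isKleinFour hV).exists_le_sylow
  have mV := mem_four_iff hV jV wV j1 w1 jw
  have VH : V ≤ H := cj' ▸ four_le_C1 hV jV
  obtain ⟨x, xV, x2, hx⟩ : ∃ x ∈ V, orderOf x = 2 ∧ ∀ y ∈ (S : Subgroup G), Commute y x → y ∈ V := by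
    obtain ⟨z, hz, z2, zc⟩ := exists_central S.2 fun e => j1 (e.le (VS jV))
    have zH : z ∈ H := cj'.le (mem_cent1.2 (mem_cent.1 zc j (VS jV)).symm)
    by_cases e : z = j
    · exact ⟨w, wV, w2, fun y hy c => (mV y).2 (cw w hw w0 y (cj'.le (mem_cent1.2 (e ▸ mem_cent.1 zc y hy))) c)⟩
    have zV := (mV z).2 (cw w hw w0 z zH (mem_cent.1 zc w (VS wV)).symm)
    exact ⟨j, jV, j2, fun y hy c => (mem_four_iff hV jV zV j1 (ne_one_of z2) (Ne.symm e) y).2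
      (cw z zH (fun r => (u z r (mul_self_of z2)).elim (ne_one_of z2) e) y (cj'.le (mem_cent1.2 c)) (mem_cent.1 zc y hy))⟩
  have pj : Pj j := fun x hx y hy => h.pj (cj'.le hx) (cj'.le hy)
  have dih : DC (S : Subgroup G) → Res G := fun r => ⟨⊥, inferInstance, by simp, .isog ⟨QuotientGroup.quotientBot⟩
    (dh (SD.dih ⟨S, r⟩ hn) hO hn j2 (cj'.le.trans h.gen) pj)⟩
  have c4 := card_dvd_of_le VS
  rw [hV.card_four] at c4
  rcases S3224.result S.2 ⟨x, VS xV⟩ (by rw [← orderOf_coe]; exact x2) (by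
    rw [← hV.card_four, ← Nat.card_congr (subgroupOfEquivOfLe VS).toEquiv]
    congr 2
    ext y
    exact ⟨fun r => hx y y.2 (congrArg Subtype.val (mem_cent1.1 r)), fun r =>
      mem_cent1.2 (Subtype.ext (mem_cent1.1 (four_le_C1 hV xV r)))⟩) with ⟨n, ⟨e⟩⟩ | qd | e
  · refine dih (.inr ⟨n, ?_, ⟨e⟩⟩)
    have := Nat.le_of_dvd Nat.card_pos c4
    rw [Nat.card_congr e.toEquiv, DihedralGroup.nat_card] at this
    omega
  swap
  · obtain rfl : V = S := eq_of_le_of_card_ge VS (by rw [e, hV.card_four])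
    exact dih (.inr ⟨2, le_rfl, IsKleinFour.nonempty_mulEquiv⟩)
  obtain ⟨n, r, s, Q⟩ := exists_qd qd
  have t2 : (2 : ZMod (2 ^ (n + 3))) ≠ 0 := fun e => Q.H.h_ne (by linear_combination 2 * 2 ^ n * e)
  have r2 : r 1 * r 1 ≠ 1 := by rw [Q.T.rr, Ne, Q.T.r_eq_one, one_add_one_eq_two]; exact t2
  set z := r (4 * 2 ^ n) with hz
  have z2 : orderOf z = 2 := Q.invol_r.2 rfl
  have s2 : s 1 * s 1 = z := by rw [Q.T.ss]; congr 1; ring
  have nz : ∀ g, g * z * g⁻¹ ≠ j := fun g e => by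
    have k : ∀ x ∈ (S : Subgroup G), g * x * g⁻¹ ∈ C1[j] := fun x hx => by
      rw [← e, C1_conj]; exact conj_mem_cj g (mem_cent1.2 (Q.commute_z hx))
    have k2 : ∀ x : G, x * x ≠ 1 → g * x * g⁻¹ * (g * x * g⁻¹) ≠ 1 := fun x r => by rwa [conj_mul, Ne, conj_eq_one_iff]
    have := (pj _ (k _ (Q.T.r_mem 1)) _ (k _ (Q.T.s_mem 1)) (k2 _ r2) (k2 _ (s2 ▸ ne_one_of z2))).eq
    rw [conj_mul, conj_mul, mul_left_inj, mul_right_inj] at this
    exact t2 (by simpa using Q.fix 1 (Q.T.commute_rs.1 this))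
  have jz : j ≠ z := fun e => nz 1 (by simp [e])
  obtain ⟨a, -, ea⟩ := (Q.invol_cases (VS jV) j2).resolve_left jz
  have zc := Block.zstar_center ((isolated_iff_sylow S z2 (Q.T.r_mem _)).2 fun g hg =>
    (Q.invol_cases hg (orderOf_cj g z2)).resolve_right fun ⟨b, _, eb⟩ => nz (a * b⁻¹ * g) (by
      rw [← ea, show a * b⁻¹ * g * z * (a * b⁻¹ * g)⁻¹ = a * (b⁻¹ * (g * z * g⁻¹) * b) * a⁻¹ by group, ← eb]; group)) hO
  have : (zpowers z).Normal := ⟨fun x hx g => by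
    rwa [mem_center_iff.1 (zpowers_le.2 zc hx) g, mul_inv_cancel_right]⟩
  have kφ : ∀ x, QuotientGroup.mk' (zpowers z) x = 1 ↔ x = 1 ∨ x = z := fun x =>
    (QuotientGroup.eq_one_iff x).trans (Invol.mem_zpowers_invol (mul_self_of z2))
  have sφ := QuotientGroup.mk'_surjective (zpowers z)
  have hn' : ¬ Group.IsSolvable (G ⧸ zpowers z) := fun r => hn (FTC.solvable_of_normal_of_quotient _ inferInstance r)
  have all : ∀ x ∈ C1[QuotientGroup.mk' (zpowers z) j], x * x = 1 := fun x hx => by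
    obtain ⟨g, rfl⟩ := sφ x
    have zH : z ∈ H := cj'.le (mem_cent1.2 (mem_center_iff.1 zc j).symm)
    have k : ∀ y, Commute y j → y = 1 ∨ y = j ∨ y = z ∨ y = j * z := fun y hy =>
      cw z zH (fun r => (u z r (mul_self_of z2)).elim (ne_one_of z2) jz.symm) y (cj'.le (mem_cent1.2 hy))
        (mem_center_iff.1 zc y)
    rw [← map_mul, kφ]
    rcases (kφ (g * j * g⁻¹ * j⁻¹)).1 (by
      rw [map_mul, map_mul, map_mul, mem_cent1.1 hx, map_inv, map_inv, mul_inv_cancel_right, mul_inv_cancel]) with e | e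
    · left
      rcases k g (mul_inv_eq_iff_eq_mul.1 (mul_inv_eq_one.1 e)) with r | r | r | r <;> rw [r]
      exacts [one_mul _, mul_self_of j2, mul_self_of z2, by
        rw [mul_assoc, ← mul_assoc z, ← mem_center_iff.1 zc j, mul_assoc, mul_self_of z2, mul_one, mul_self_of j2]]
    rw [mul_inv_eq_iff_eq_mul] at e
    have nc : ¬ Commute g j := fun c => ne_one_of z2 (by rwa [c.eq, mul_inv_cancel_right, right_eq_mul] at e)
    have cz : Commute g z := mem_center_iff.1 zc g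
    rcases k (g * g) (mul_inv_eq_iff_eq_mul.1 (by
      rw [show g * g * j * (g * g)⁻¹ = g * (g * j * g⁻¹) * g⁻¹ by group, e, ← conj_mul, e, cz.eq, mul_inv_cancel_right,
        mul_self_cancel (mul_self_of z2)])) with r | r | r | r
    · exact .inl r
    · exact absurd (r ▸ (Commute.refl g).mul_right (Commute.refl g)) nc
    · exact .inr r
    · refine absurd ?_ nc
      simpa [r] using ((Commute.refl g).mul_right (Commute.refl g)).mul_right cz.inv_right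
  refine ⟨zpowers z, this, by rw [Nat.card_zpowers, z2], dh (SD.dih ⟨S.mapSurjective sφ, .inr ⟨orderOf
    (QuotientGroup.mk' (zpowers z) (r 1)), ?_, ?_⟩⟩ hn') (pPrimeCore_quotient_central hO _ (zpowers_le.2 zc) (pg_invol (mul_self_of z2)))
    hn' (orderOf_two_iff.2 ⟨by rw [← map_mul, mul_self_of j2, map_one], fun e => ((kφ j).1 e).elim j1 jz⟩)
    (fun x hx => Subgroup.subset_closure (all x hx)) fun x hx _ _ r _ => absurd (all x hx) r⟩
  · have := orderOf_pos (QuotientGroup.mk' (zpowers z) (r 1))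
    have := mt orderOf_eq_one_iff.1 fun e => ((kφ (r 1)).1 e).elim (fun e => r2 (by rw [e, one_mul]))
      fun e => r2 (e ▸ mul_self_of z2)
    omega
  have e : ((S.mapSurjective sφ : Sylow 2 _) : Subgroup _) = Subgroup.closure {QuotientGroup.mk' (zpowers z) (s 0),
      QuotientGroup.mk' (zpowers z) (r 1)} := by
    rw [Sylow.coe_mapSurjective, ← Set.image_pair, ← MonoidHom.map_closure]
    congr 1
    refine le_antisymm (fun d hd => ?_) ((closure_le _).2 (Set.pair_subset (Q.T.s_mem 0) (Q.T.r_mem 1)))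
    have m : r 1 ∈ Subgroup.closure {s 0, r 1} := Subgroup.subset_closure (by simp)
    obtain ⟨k, rfl | rfl⟩ := (Q.T.mem_int d).1 hd
    exacts [zpow_mem m k, mul_mem (Subgroup.subset_closure (by simp)) (zpow_mem m k)]
  rw [e]
  refine closure_equiv_dihedral (by rw [← map_mul, mul_self_of (Q.invol_s.2 ⟨0, by simp⟩), map_one]) ?_ ?_
  · rw [← map_inv, ← map_mul, ← map_mul, ← map_inv, ← mul_inv_eq_one, ← map_inv, ← map_mul, kφ, Q.T.conj_sr, inv_inv,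
      Q.T.rr]
    exact .inr (by congr 1; ring)
  · rintro ⟨k, e⟩
    have := (kφ ((r 1 ^ k)⁻¹ * s 0)).1 (by rw [map_mul, map_inv, map_zpow, inv_mul_eq_one]; exact e)
    rw [Q.T.r_zpow, Q.T.inv_r, Q.T.rs] at this
    exact this.elim (Q.T.s_ne_one _) (Q.T.ne _ _).symm

theorem resA (hO : oddCore G = ⊥) (hn : ¬ Group.IsSolvable G) (hr : SE.Rank2 Z) : Res G := by
  have cl := h.cl hr
  have hO' := (Op'_top 2).trans hO
  have Z2 : IsPGroup 2 Z := fun z => ⟨1, Subtype.ext (by simpa [sq] using h.zz z z.2)⟩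
  have n1 : ∀ z ∈ Z, z ≠ 1 → ∀ g, g * z * g⁻¹ ∈ H → g ∈ N[Z] := fun z hz z1 g e => mem_norm_of_conj fun y hy =>
    cl y hy g ((h.cen _ (cl z hz g e) (by simpa using z1)).le (by
      rw [C1_conj]; exact conj_mem_cj g (mem_cent1.2 (h.cz hz (h.ZH hy)))))
  obtain ⟨z, hz, -, -, z2, -⟩ := id hr
  have z1 := ne_one_of z2
  obtain ⟨T, hT, ZT⟩ := Sylow_superset le_top Z2
  have TH : T ≤ H := by_contra fun r => by
    have lt := Transfer.lt_inf_normalizer_of_isPGroup hT.pg (lt_of_le_of_ne (inf_le_left : T ⊓ H ≤ T)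
      fun e => r (e.ge.trans inf_le_right))
    have l := (le_inf ZT h.ZH).trans lt.le
    obtain ⟨y, ⟨hy, -, yc⟩, y1⟩ := trivgPn.1 (meet_center_nil (pgroup_nil (hT.pg.to_le inf_le_left)) ⟨l, fun g hg =>
      n1 z hz z1 g (conj_mem_of_norm hg.2 ⟨ZT hz, h.ZH hz⟩).2⟩ fun e => z1 (e.le hz))
    exact lt.not_ge (le_inf inf_le_left ((le_cent1_iff.2 yc).trans (h.cen y hy y1).le))
  have HN : H ≤ N[Z] := fun x hx => mem_norm_of_conj fun y hy => by rwa [(h.cz hy hx).eq, mul_inv_cancel_right]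
  have ne : N[Z] ≠ ⊤ := fun e => hn (by
    have nH : H.Normal := ⟨fun x hx g => by
      rw [← h.cen _ (conj_mem_of_norm (e.ge (mem_top g)) hz) (by simpa using z1), C1_conj, h.cen z hz z1]
      exact conj_mem_cj g hx⟩
    refine FTC.solvable_of_normal_of_quotient H h.sol (isog_sol (isog_symm isog_top) (GW.odd_sol ?_))
    rw [card_top, ← index_eq_card]
    exact (pnat_odd.1 hT.idx).of_dvd_nat (relIndex_top_right H ▸ relIndex_dvd_of_le_left ⊤ TH))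
  obtain ⟨L, nL, _, hna, se, hI⟩ := core_simple hO' (pc_of_closed hT ⟨ZT, fun x hx g e => cl x hx g (TH e)⟩
    (fun s hs s1 => (h.cen s hs s1).le.trans HN) le_rfl) (normG Z) ne hr
  have ZL : Z ≤ L := fun x hx => (eq_or_ne x 1).elim (fun e => e ▸ one_mem _) fun x1 =>
    (hI x (h.two hx x1)).2 ⟨h.two hx x1, 1, by simpa⟩
  have inv : ∀ x ∈ L, x ∈ H → x * x = 1 → x ∈ Z := fun x hx xH xx => (eq_or_ne x 1).elim (fun e => e ▸ one_mem _)
    fun x1 => by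
      obtain ⟨-, g, e⟩ := (hI x (orderOf_two_iff.2 ⟨xx, x1⟩)).1 hx
      obtain ⟨y, hy, rfl⟩ := mem_cj'.1 e
      exact cl y hy g xH
  have hS := Sylow_setI_normal nL hT
  have hQ := pHall_subgroupOf le_rfl hS
  rw [subgroupOf_self] at hQ
  obtain ⟨P, eP⟩ := sylow_of_sylowIn_top hQ
  have hab := AB.hab_of_sylow P (eP ▸ ⟨⟨fun x y => Subtype.ext (Subtype.ext (by
    by_cases xx : (x : G) * x = 1
    · exact (h.cz (inv _ x.1.2 (TH x.2.2) xx) (TH y.2.2)).symm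
    by_cases yy : (y : G) * y = 1
    exacts [h.cz (inv _ y.1.2 (TH y.2.2) yy) (TH x.2.2), h.pj (TH x.2.2) (TH y.2.2) xx yy]))⟩⟩)
  have eZ : L ⊓ T = Z := le_antisymm (fun x hx => inv x hx.1 (TH hx.2) (by
    obtain ⟨t, Q, hy⟩ := SE.bender_simple (SE.exists_not_comm hna) se
    obtain ⟨P0, rfl⟩ := hy.exists_sylow
    obtain ⟨g, -, e⟩ := Sylow_trans (sylowIn_top P0) hQ
    obtain ⟨y, hy', e'⟩ := mem_cj'.1 (e.le (show (⟨x, hx.1⟩ : L) ∈ _ from hx))
    have := AB.hyp_elem hy (isMulCommutative_iff'.1 (hab _ P0.2)) y hy'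
    exact congrArg Subtype.val (show (⟨x, hx.1⟩ * ⟨x, hx.1⟩ : L) = 1 by rw [← e', conj_mul, this]; simp))) (le_inf ZL ZT)
  rw [eZ] at hS
  have cZ : H ≤ C[Z] := fun x hx => mem_cent.2 fun y hy => (h.cz hy hx).symm
  have HL : H ≤ L ⊔ C[L] := fun x hx => by
    have k : ∀ x ∈ H, x * x = 1 → x ∈ L ⊔ C[L] := fun x hx xx => sup_le_sup_right ZL _ (inner_of hna hS (h.ZH.trans cZ)
      (pg_invol xx) (le_top.trans nL.norm) (zpowers_le.2 (cZ hx)) (mem_zpowers x))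
    obtain ⟨w, hw, w0⟩ := h.ex
    by_cases x0 : x ∈ A
    · exact ((L ⊔ C[L]).mul_mem_cancel_left (k w hw (h.sq w hw w0))).1
        (k _ (h.nm hw w0 x0).1 (h.sq _ (h.nm hw w0 x0).1 (h.nm hw w0 x0).2))
    · exact k x hx (h.sq x hx x0)
  have top : ∀ g, g ∈ L ⊔ C[L] := fun g => by
    obtain ⟨l, e⟩ := isConj_iff.1 (SE.isConj se (a := ⟨z, ZL hz⟩) (b := ⟨_, nL.conj_mem (mem_top g) (ZL hz)⟩)
      (by rw [← orderOf_coe]; exact z2) (by rw [← orderOf_coe]; exact orderOf_cj g z2))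
    have e : (l : G) * z * (l : G)⁻¹ = g * z * g⁻¹ := congrArg Subtype.val e
    refine ((L ⊔ C[L]).mul_mem_cancel_left (mem_sup_left (inv_mem l.2))).1 (HL ((h.cen z hz z1).le (mem_cent1.2 ?_)))
    rw [mul_assoc, inv_mul_eq_iff_eq_mul, ← mul_assoc, ← mul_assoc, e]; group
  have nC : C[L] ⊴ ⊤ := ⟨le_top, norms_cent nL.norm⟩
  have := nC.normal
  have CL : ∀ x ∈ L, x ∈ C[L] → x = 1 := fun x hx hc => congrArg Subtype.val (mem_bot.1 (SE.center_simple
    (SE.exists_not_comm hna) ▸ mem_center_iff.2 fun y => Subtype.ext (mem_cent.1 hc y y.2) : (⟨x, hx⟩ : L) ∈ ⊥))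
  have CH : C[L] ≤ H := (cent_le_cent1 (ZL hz)).trans (h.cen z hz z1).le
  have ho : Odd #(C[L] ⊓ A : Subgroup G) := odd_card_iff.2 fun t ht t2 =>
    ne_one_of t2 (CL t (ZL (h.uq t ht.2 (mul_self_of t2))) ht.1)
  have CA : C[L] ⊓ A ≤ ⊥ := hO' ▸ le_Op' ⟨le_top, fun g hg => mem_norm_of_conj fun x hx => ⟨nC.conj_mem hg hx.1,
    h.odd (CH (nC.conj_mem hg hx.1)) (by rw [BG.orderOf_conj']; exact odd_of_mem ho hx)⟩⟩ ho
  obtain ⟨F, i1, i2, n, n2, hF, ⟨e⟩, -⟩ := AB.psl_of_se hna hab se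
  refine ⟨C[L], this, ?_, F, i1, i2, hF ▸ lt_of_lt_of_le (by norm_num) (Nat.pow_le_pow_right two_pos n2), .inl
    ⟨(MulEquiv.ofBijective ((QuotientGroup.mk' C[L]).comp L.subtype) ⟨(injective_iff_map_eq_one _).2 fun x hx =>
      Subtype.ext (CL x x.2 ((QuotientGroup.eq_one_iff _).1 hx)), fun y => ?_⟩).symm.trans e⟩⟩
  · by_cases e : C[L] = ⊥
    · simp [e]
    obtain ⟨c, hc, c1⟩ := trivgPn.1 e
    have k : ∀ c ∈ C[L], c ≠ 1 → c ∉ A := fun c hc c1 r => c1 (CA ⟨hc, r⟩)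
    have cc := h.sq c (CH hc) (k c hc c1)
    refine (card_dvd_of_le (fun x hx => ?_ : C[L] ≤ zpowers c)).trans (by
      rw [Nat.card_zpowers, orderOf_two_iff.2 ⟨cc, c1⟩])
    rcases eq_or_ne x 1 with rfl | x1
    · exact one_mem _
    obtain ⟨r, -⟩ | ⟨-, -, r⟩ := h.alt
    · exact absurd (CL x (ZL (r (CH hx))) hx) x1
    rw [eq_inv_of_mul_eq_one_left (CA ⟨mul_mem hx hc, r x (CH hx) c (CH hc) (k x hx x1) (k c hc c1)⟩)]
    exact inv_mem (mem_zpowers c)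
  · obtain ⟨g, rfl⟩ := QuotientGroup.mk'_surjective _ y
    obtain ⟨l, hl, c, hc, rfl⟩ := (mem_sup_normr (le_top.trans nC.norm)).1 (top g)
    exact ⟨⟨l, hl⟩, by simp [(QuotientGroup.eq_one_iff c).2 hc]⟩

theorem res (hn : ¬ Group.IsSolvable G) : Res (G ⧸ oddCore G) := by
  have ho : Odd #(oddCore G) := by
    have := odd_Op' (⊤ : Subgroup G)
    rwa [Op'_top] at this
  have k := h.quo ho
  have hn' : ¬ Group.IsSolvable (G ⧸ oddCore G) := fun r => hn (FTC.solvable_of_normal_of_quotient _ (GW.odd_sol ho) r)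
  exact (em _).elim (k.resA (Solv.pPrimeCore_quotient_pPrimeCore 2 G) hn')
    (k.resB (Solv.pPrimeCore_quotient_pPrimeCore 2 G) hn')

end DZ

end Cfsg.Agent.SCl
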