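import Cfsg.Agent.SCl.R2
import Cfsg.Agent.GW.Main
import Cfsg.Agent.GW.Down
import Cfsg.Agent.Invol.QD
import Cfsg.Agent.S3224

/-! Dihedral Sylow 2-subgroups with an involution whose centraliser is a D-group give `PSL₂` or `PGL₂` (`dh`). -/
set_option autoImplicit false
set_option linter.unusedSectionVars false
open Subgroup Cfsg.Agent.BG Cfsg.Agent.GW Cfsg.Agent.Sig Cfsg.Agent.Gold Cfsg.Agent.ZD Cfsg.Agent.Invol Cfsg.Agent.ThA
  Cfsg.Agent.Classical
open scoped commutatorElement MatrixGroups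

namespace Cfsg.Agent.SCl
universe u
variable {G : Type u} [Group G] [Finite G] {A H L S V : Subgroup G} {a g j s w x y z : G}

/-- `PSL₂(q)` or `PGL₂(q)`, `q > 3` -/
def PL (X : Type*) [Group X] : Prop := ∃ (F : Type) (_ : Field F) (_ : Fintype F), 3 < Fintype.card F ∧
  (Nonempty (X ≃* PSL(2, F)) ∨ Nonempty (X ≃* PGL(2, F)))

/-- elements of `C(j)` of order greater than two commute -/
def Pj {G : Type*} [Group G] (j : G) : Prop := ∀ x ∈ C1[j], ∀ y ∈ C1[j], x * x ≠ 1 → y * y ≠ 1 → Commute x y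

theorem PL.isog {X Y : Type*} [Group X] [Group Y] (e : Nonempty (X ≃* Y)) (h : PL Y) : PL X :=
  let ⟨F, i, k, l, r⟩ := h; ⟨F, i, k, l, r.imp (isog_trans e) (isog_trans e)⟩

theorem not_A7 (hX : IsA7 G) (j2 : orderOf j = 2) : ¬ Pj j := fun h => by
  obtain ⟨e⟩ := hX
  obtain ⟨γ, -, hγ⟩ := A7.conj_invol (σ := e j) (by rw [orderOf_coe, e.orderOf_eq, j2])
    (Equiv.Perm.mem_alternatingGroup.1 (e j).2) A7.orderOf_t7 A7.sign_t7
  let π : G →* Equiv.Perm (Fin 7) := (MulAut.conj γ).toMonoidHom.comp ((alternatingGroup _).subtype.comp e.toMonoidHom)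
  have inj : Function.Injective π := (MulAut.conj γ).injective.comp (Subtype.val_injective.comp e.injective)
  have et : π j = A7.t7 := hγ
  have k : ∀ σ : Equiv.Perm (Fin 7), Equiv.Perm.sign σ = 1 → σ * A7.t7 = A7.t7 * σ → σ * σ ≠ 1 →
      ∃ x, π x = σ ∧ x ∈ C1[j] ∧ x * x ≠ 1 := fun σ h2 h1 h3 => by
    obtain ⟨x, hx⟩ := e.surjective ⟨γ⁻¹ * σ * γ, Equiv.Perm.mem_alternatingGroup.2 (by simp [h2])⟩
    have : π x = σ := by simp [π, hx, mul_assoc]
    exact ⟨x, this, mem_cent1.2 (inj (by rw [map_mul, map_mul, et, this, h1])), fun r => h3 (by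
      rw [← this, ← map_mul, r, map_one])⟩
  obtain ⟨x, ex, hx, x2⟩ := k (Equiv.swap 0 2 * Equiv.swap 1 3 * Equiv.swap 0 1 * Equiv.swap 4 5) (by simp) (by decide +kernel) (by decide +kernel)
  obtain ⟨y, ey, hy, y2⟩ := k (Equiv.swap 4 5 * Equiv.swap 5 6) (by simp) (by decide +kernel) (by decide +kernel)
  have := congrArg π (h x hx y hy x2 y2).eq
  rw [map_mul, map_mul, ex, ey] at this
  exact absurd this (by decide +kernel)

theorem dh (hG : DihSyl G) (hO : oddCore G = ⊥) (hn : ¬ Group.IsSolvable G) (j2 : orderOf j = 2)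
    (h1 : C1[j] ≤ Subgroup.closure {x : G | x * x = 1}) (h2 : Pj j) : PL G := by
  obtain ⟨L, _, _, c, d, ⟨q, F, _, _, a, b, f, e⟩ | h⟩ := GWH.struct gw_simple hG hO hn
  swap
  · obtain rfl := eq_top_A7 hG h d
    exact absurd h2 (not_A7 (isog_trans isog_top h) j2)
  have hO := (Op'_top 2).trans hO
  have h := cmp_top hO (perf_of_simple ‹_› c) d
  have hq : L2T L q := ⟨F, _, _, a, b, f, isog_trans (quo_center_equiv d) e⟩
  obtain ⟨F, _, _, D, th, φ, hF, k⟩ := h.exists_PG hG hq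
  have nL : L ⊴ ⊤ := normal_top L
  have CD : C1[j] ≤ D := h1.trans ((closure_le _).2 fun x hx => k.invol (mem_top x) hx)
  have top : ∀ g, g ∈ D := fun g => by
    by_cases jL : j ∈ L
    · obtain ⟨l, hl, r⟩ := h.one_class hG hq jL (nL.conj_mem (mem_top g) jL) j2 (orderOf_cj g j2)
      refine (D.mul_mem_cancel_left (D.inv_mem (k.LD hl))).1 (CD (mem_cent1.2 ?_))
      rw [mul_assoc, inv_mul_eq_iff_eq_mul, ← mul_assoc, ← mul_assoc, r]; group
    obtain ⟨S, hj⟩ := (pg_invol (mul_self_of j2)).exists_le_sylow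
    replace hj := hj (mem_zpowers j)
    obtain ⟨_, n, r, s, E⟩ := hG.exists_dih
    obtain ⟨r, s, E⟩ := Block.dih_sylow E S
    have SD : (S : Subgroup G) ≤ D := fun x hx => by
      obtain ⟨i, rfl | rfl⟩ := (E.T.mem x).1 hx
      · simpa [E.T.ss] using mul_mem (k.invD (mem_top _) (E.invol_s 0)) (k.invD (mem_top _) (E.invol_s i))
      · exact k.invD (mem_top _) (E.invol_s i)
    obtain ⟨t, ⟨⟨tS, tL⟩, -, tc⟩, t2⟩ := BG.Cauchy Nat.prime_two (pgroup_pdiv (S.2.to_le (inf_le_left.trans inf_le_left))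
      (meet_center_nil (pgroup_nil S.2) (normalGI le_top nL) fun e => c (odd_sol (by
        have := (Sylow_setI_normal nL (sylowIn_top S)).idx
        rw [inf_comm L, e, relIndex_bot_left] at this
        exact pnat_odd.1 this))))
    obtain ⟨x, hx, n, hn, rfl⟩ := (Transfer.isSylowIn_of_sylow_le S SD).frattini (g := g)
      (mem_norm_of_conj fun x hx => k.conjD (mem_top g) hx)
    obtain ⟨y, hy, c, hc, rfl⟩ := (Transfer.isSylowIn_of_sylow_le S (normG _)).exists_mul_of_coprime_mem (C := D)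
      (fun c hc ho => CD (cent_le_cent1 hj (hG.cent S.2 tS (ne_one_of t2) hc (Nat.coprime_two_right.1 ho) (by
        by_contra ne
        have ne' : t ≠ c * t * c⁻¹ := fun e => ne (mul_inv_eq_iff_eq_mul.1 e.symm)
        have t' := orderOf_cj c t2
        have tc' : c * t * c⁻¹ ∈ C[(S : Subgroup G)] := conj_mem_of_norm (norms_cent le_rfl hc) tc
        obtain ⟨V, hV, v1, v2⟩ := four_cl t2 t' (mem_cent.1 tc' t tS) ne'
        rcases (mem_four_iff hV v1 v2 (ne_one_of t2) (ne_one_of t') ne' j).1 (hG.mem_four hV (mul_self_of j2)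
          (mem_C_four hV v1 v2 (ne_one_of t2) (ne_one_of t') ne' (mem_cent.1 tc j hj) (mem_cent.1 tc' j hj))) with
          e | e | e | e
        · exact ne_one_of j2 e
        · exact jL (e ▸ tL)
        · exact jL (e ▸ nL.conj_mem (mem_top c) tL)
        · exact jL (e ▸ mul_mem tL (nL.conj_mem (mem_top c) tL)))))) hn
    exact mul_mem hx (mul_mem (SD hy) hc.1)
  let π : G →* PGL(2, F) := MonoidHom.mk' th fun a b => k.mul (top a) (top b)
  have inj : Function.Injective π := (injective_iff_map_eq_one π).2 fun a ha => mem_bot.1 (hO ▸ k.ker.2 ⟨top a, ha⟩)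
  have l : LP F ≤ π.range := fun x hx => let ⟨a, _, e⟩ := k.surj x hx; ⟨a, e⟩
  have := Fintype.ofFinite F
  refine ⟨F, ‹_›, this, Nat.card_eq_fintype_card (α := F) ▸ k.big, ?_⟩
  rcases (Nat.dvd_prime Nat.prime_two).1 (index_LP k.two ▸ index_dvd_of_le l) with e | e
  · exact .inr ⟨(MonoidHom.ofInjective inj).trans ((MulEquiv.subgroupCongr (index_eq_one.1 e)).trans topEquiv)⟩
  · refine .inl ⟨(MonoidHom.ofInjective inj).trans ((MulEquiv.subgroupCongr ?_).trans
      (MonoidHom.ofInjective pslInj).symm)⟩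
    have := relIndex_mul_index l
    rw [e, index_LP k.two] at this
    exact le_antisymm (relIndex_eq_one.1 (Nat.eq_of_mul_eq_mul_right two_pos (this.trans (one_mul 2).symm))) l

end Cfsg.Agent.SCl
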