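import Cfsg.Agent.ThA.Red

/-! Strongly closed 2-subgroups with a proper uniqueness subgroup: the case of 2-rank at least two (`r2`). -/
set_option autoImplicit false
set_option linter.unusedSectionVars false
open Subgroup Cfsg.Agent.BG Cfsg.Agent.GW Cfsg.Agent.Sig Cfsg.Agent.Gold Cfsg.Agent.ZD Cfsg.Agent.Invol Cfsg.Agent.Suz
  Cfsg.Agent.Rank1 Cfsg.Agent.ThA
open scoped commutatorElement

namespace Cfsg.Agent.SCl
universe u
variable {G : Type u} [Group G] [Finite G] {H L S T : Subgroup G} {g s x y z : G}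

/-- conjugates of involutions of `S` lie in `H` only under elements of `H` -/
structure UH {G : Type*} [Group G] (S H : Subgroup G) : Prop where
  le : S ≤ H
  ne : H ≠ ⊤
  uq : ∀ z ∈ S, orderOf z = 2 → ∀ g : G, g * z * g⁻¹ ∈ H → g ∈ H

/-- the conclusion -/
def Con {G : Type*} [Group G] (S T : Subgroup G) : Prop :=
  T ⊓ ncl ⊤ S ≤ S ∨ ((∀ s ∈ S, s * s = 1) ∧ ∀ x ∈ T ⊓ ncl ⊤ S, x * x = 1 → x ∈ S)

theorem UH.of_mem (h : UH S H) (h2 : IsPGroup 2 S) (hs : s ∈ S) (s1 : s ≠ 1) (e : g * s * g⁻¹ ∈ H) : g ∈ H := by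
  obtain ⟨m, hm⟩ := (two_of_mem h2 hs).exists_invol s1
  exact h.uq _ (pow_mem hs m) hm g (conj_pow (a := g) ▸ pow_mem e m)

theorem UH.pc (h : UH S H) (hT : SylowIn 2 T ⊤) (hsc : IsStronglyClosed S T) (h0 : S ≠ ⊥) : PC G (G ⧸ H) (ZI S) := by
  have h2 := hT.pg.to_le hsc.1
  obtain ⟨z, hz, z1⟩ := trivgPn.1 h0
  exact pc_of_closed hT hsc (fun s hs s1 c hc => h.of_mem h2 hs s1 (by rw [mem_cent1.1 hc]; simpa using h.le hs))
    fun n hn => h.of_mem h2 hz z1 (h.le (conj_mem_of_norm hn hz))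

theorem case1 [IsSimpleGroup L] (hna : ¬ IsMulCommutative L) (h : UH S H) (h2 : IsPGroup 2 S) (hn : S ≤ N[L])
    (hS : SylowIn 2 (L ⊓ S) L) (se : IsStronglyEmbedded (H.subgroupOf L)) : S ≤ L := fun s hs => by
  obtain ⟨t, Q, hy⟩ := SE.bender_simple (SE.exists_not_comm hna) se
  have hQ : Q ≤ S.subgroupOf L := fun q hq => by
    have k : Q.map L.subtype = L ⊓ S := Hall_max hS (fun x hx => by
      obtain ⟨n, e⟩ := two_of_mem h2 hx.2
      exact ⟨⟨x, hx.1⟩, Setup.mem_Q_of_pow hy.setup (n := n) (SE.smul_pt.2 (h.le hx.2)) (Subtype.ext e), rfl⟩)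
      (map_subtype_le _) (hy.tri.1.map _).pi
    exact (k.le (mem_map_of_mem _ hq)).2
  obtain ⟨y, hy0⟩ := SE.exists_not_mem se
  have hy1 : (⟨s * y * s⁻¹, conj_mem_of_norm (hn hs) y.2⟩ : L) ∉ H.subgroupOf L := fun e => hy0 (by
    simpa [mul_assoc, mem_subgroupOf] using H.mul_mem (H.mul_mem (H.inv_mem (h.le hs)) e) (h.le hs))
  obtain ⟨q, hq, e⟩ := Setup.exists_Q hy.setup (b := y • SE.pt _) (c := _ • SE.pt _) (mt SE.smul_pt.1 hy0)
    (mt SE.smul_pt.1 hy1)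
  rw [← mul_smul, ← inv_smul_eq_iff, ← mul_smul, SE.smul_pt] at e
  by_contra hsL
  refine hy0 (H.inv_mem_iff.1 (h.of_mem h2 (S.mul_mem (S.inv_mem hs) (hQ hq)) (fun r => hsL ?_) (g := (y : G)⁻¹) ?_))
  · rw [inv_mul_eq_one] at r; exact r ▸ q.2
  · simpa [mul_assoc] using H.mul_mem (H.inv_mem (h.le hs)) e

theorem case2 [IsSimpleGroup L] (hna : ¬ IsMulCommutative L) (h2 : IsPGroup 2 T) (hn : T ≤ N[L])
    (hS : SylowIn 2 (L ⊓ T) L) (hB : CL S) (lB : S ≤ T) (nB : ¬ L ⊓ T ≤ S) (hI : ∀ z ∈ S, orderOf z = 2 → z ∈ L)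
    {M : Subgroup L} {a : L ⧸ M} {t : L} (h : HN L (L ⧸ M) a t ((L ⊓ T).subgroupOf L))
    (l0 : (Q0 ((L ⊓ T).subgroupOf L)).map L.subtype ≤ S) : S ≤ (Q0 ((L ⊓ T).subgroupOf L)).map L.subtype := by
  have e := map_subgroupOf_eq_of_le (inf_le_left : L ⊓ T ≤ L)
  have l1 : S ⊓ (L ⊓ T) ≤ (Q0 ((L ⊓ T).subgroupOf L)).map L.subtype := fun s hs => by_contra fun r => nB fun x hx =>
    h.irr (X := S.subgroupOf L) (fun u hu => l0 (mem_map_of_mem _ hu)) (fun d hd x hx e => hB.cl T h2 lB d x e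
      (Setup.conj_mem_Q h.setup hd.1 hx).2) (s := ⟨s, hs.2.1⟩) hs.2 hs.1 (fun r' => r (mem_map_of_mem _ r'))
      (x := ⟨x, hx.1⟩) hx
  have c1 : ⁅L ⊓ T, S⁆ ≤ (Q0 ((L ⊓ T).subgroupOf L)).map L.subtype := by
    rw [commGC]
    exact (commg_subI (normsI (lB.trans hn) (lB.trans (normG T))) (inf_le_right.trans (hB.le_norm h2 lB))).trans l1
  have c2 : S ≤ C[(Q0 ((L ⊓ T).subgroupOf L)).map L.subtype] := fun s hs => mem_cent.2 (by
    rintro _ ⟨u, hu, rfl⟩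
    rcases eq_or_ne u 1 with rfl | u1
    · simp
    obtain ⟨x, hx, x0⟩ := h.exists_not
    obtain ⟨k, hk, rfl⟩ := h.exists_K_conj (h.sq hx) (h.sq_ne hx x0) hu u1
    have hw := Setup.conj_mem_Q h.setup (h.K_smul_a hk) hx
    rw [show k * (x * x) * k⁻¹ = k * x * k⁻¹ * (k * x * k⁻¹) by group]
    generalize k * x * k⁻¹ = w at hw
    obtain ⟨r, hr, er⟩ := c1 (commutator_mem_commutator (show ((w⁻¹ : L) : G) ∈ L ⊓ T from inv_mem hw) hs)
    have k1 : s * w * s⁻¹ = w * r := by rw [show (r : G) = _ from er]; simp [commutatorElement_def, mul_assoc]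
    have k2 : w * r * (w * r) = w * w := by
      rw [mul_assoc, ← mul_assoc r, (h.Q0_comm hr hw).eq, mul_assoc, h.Q0_sq hr, mul_one]
    have k3 : s * (w * w) * s⁻¹ = w * w := by
      rw [show s * (w * w) * s⁻¹ = s * w * s⁻¹ * (s * w * s⁻¹) by group, k1]; exact congrArg Subtype.val k2
    exact (mul_inv_eq_iff_eq_mul.1 k3).symm)
  have c0 : L ⊓ T ⊔ S ≤ C[(Q0 ((L ⊓ T).subgroupOf L)).map L.subtype] := sup_le (fun x hx => mem_cent.2 (by
    rintro _ ⟨u, hu, rfl⟩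
    exact congrArg Subtype.val (h.Q0_comm hu (y := ⟨x, hx.1⟩) hx).eq)) c2
  have k := le_sup_right.trans (inn h (h2.to_le (sup_le inf_le_right lB)) ((sup_le inf_le_right lB).trans hn)
      (e.le.trans le_sup_left) c0 (by
    rw [commGC]
    refine comm_sup_le (le_sup_left.trans (cents_norm c0)) (le_sup_right.trans (cents_norm c0)) ?_ ?_
    · refine (commSg _ e.ge).trans ((map_commutator _ _ _).ge.trans ?_)
      exact map_mono (commutator_le.2 fun x hx y hy => h.cm hx hy)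
    · rw [e, commGC]; exact c1))
  have z1 : ∀ x ∈ L, x ∈ C[L] → x = 1 := fun x hx hc => congrArg Subtype.val (mem_bot.1 (SE.center_simple
    (SE.exists_not_comm hna) ▸ mem_center_iff.2 fun y => Subtype.ext (mem_cent.1 hc y y.2) : (⟨x, hx⟩ : L) ∈ ⊥))
  intro s hs
  obtain ⟨y, hy, c, hc, rfl⟩ := (mem_sup_normr (norms_cent (normG L))).1 (k hs)
  have cy : Commute y c := mem_cent.1 hc y hy
  obtain ⟨n, e2⟩ := two_of_mem hB.pg hs
  rw [cy.mul_pow] at e2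
  have y2 : y ^ 2 ^ n = 1 := z1 _ (pow_mem hy _) (eq_inv_of_mul_eq_one_left e2 ▸ inv_mem (pow_mem hc _))
  have nU : y ∈ N[L ⊓ T] := by
    simpa using mul_mem (normsI hn (normG T) (lB hs)) (inv_mem (centralizer_le_normalizer _ (centS inf_le_left hc)))
  have yU : y ∈ L ⊓ T := by
    have p : IsPGroup 2 (zpowers y) := isPGroup_zpowers (n := n) y2
    exact (Hall_max hS le_sup_left (sup_le inf_le_left (zpowers_le.2 hy)) (pgroupY (.inr (zpowers_le.2 nU)) hS.pi p.pi)).le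
      (mem_sup_right (mem_zpowers y))
  have cT : c ∈ T := (T.mul_mem_cancel_left yU.2).1 (lB hs)
  obtain ⟨d, hd, d1⟩ := trivgPn.1 h.K_ne_bot
  have da := h.K_smul_a hd
  have hw := Setup.conj_mem_Q h.setup da (x := ⟨y, hy⟩) yU
  have k1 : d * (y * c) * (d : G)⁻¹ = d * y * (d : G)⁻¹ * c := by
    rw [mul_assoc, mul_assoc, ← mem_cent.1 hc _ (inv_mem d.2)]; group
  have k2 := hB.cl T h2 lB d _ hs (k1 ▸ mul_mem hw.2 cT)
  have y0 : (⟨y, hy⟩ : L) ∈ Q0 ((L ⊓ T).subgroupOf L) := mem_of_fpf (Q0_le _) (c := d)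
    (mem_norm_of_conj fun x => h.conj_mem_Q0 da) (fun y hy => h.K_fpf hd d1 hy) yU
    ((mem_map_iff_mem L.subtype_injective).1 (l1 ⟨by
      simpa [k1, commutatorElement_def, mul_assoc] using mul_mem hs (inv_mem k2), by
      simpa [commutatorElement_def, mul_assoc] using mul_mem yU (inv_mem hw)⟩))
  have cS : c ∈ S := (mul_mem_cancel_left (l0 (mem_map_of_mem _ y0))).1 hs
  obtain rfl : c = 1 := by_contra fun c1 => by
    obtain ⟨m, hm⟩ := (two_of_mem hB.pg cS).exists_invol c1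
    exact ne_one_of hm (z1 _ (hI _ (pow_mem cS m) hm) (pow_mem hc m))
  simpa using mem_map_of_mem L.subtype y0

theorem r2core (hO : Op' 2 (⊤ : Subgroup G) = ⊥) (h : UH S H) (hT : SylowIn 2 T ⊤) (hsc : IsStronglyClosed S T)
    (hr : SE.Rank2 S) : Con S T := by
  obtain ⟨x, hx, y, hy, x2, y2, hne, -⟩ := hr
  have hB := cl_of_sylow hT hsc
  have pc := h.pc hT hsc fun e => ne_one_of x2 (e.le hx)
  have k : ∀ x ∈ S, orderOf x = 2 → x ∈ ZI S := fun x h1 h2 => ⟨h2, 1, by simpa⟩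
  obtain ⟨g, hg⟩ : ∃ g, g ∉ H := by_contra fun e => h.ne (eq_top_iff.2 fun g _ => by_contra fun r => e ⟨g, r⟩)
  have ha := SE.smul_pt.2 (h.le hx)
  have hz' := pc.conj x (k x hx x2) g
  have ha' : (g * x * g⁻¹) • SE.pt H ≠ SE.pt H := fun e => hg (h.uq x hx x2 g (SE.smul_pt.1 e))
  have loc := fun t => pc.loc (t := t) (k x hx x2) ha hz' ha'
  have se := pc.se (k x hx x2) ha hz' ha'
  rw [SE.St_pt] at se
  have ci : CI S := fun u hu uu v hv vv => by
    rcases eq_or_ne u 1 with rfl | x1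
    · simp
    rcases eq_or_ne v 1 with rfl | y1
    · simp
    exact pc.comm_of_two (k x hx x2) ha hz' ha' (k u hu (orderOf_two_iff.2 ⟨uu, x1⟩))
      (k v hv (orderOf_two_iff.2 ⟨vv, y1⟩)) (two_of_mem hB.pg (mul_mem hu hv))
  set L := closure (ZI S) with hL
  have nL : L ⊴ ⊤ := ⟨le_top, fun g _ => mem_norm_of_cj_le (by
    rw [cj_le_iff, hL, closure_le]
    exact fun z hz => mem_cj.2 (by simpa using subset_closure (pc.conj z hz g)))⟩
  have hI : ∀ z ∈ S, orderOf z = 2 → z ∈ L := fun z h1 h2 => subset_closure (k z h1 h2)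
  have big : ∀ N : Subgroup L, N.Normal → N ≠ ⊥ → N = ⊤ := fun N hN h0 => by
    obtain ⟨t, ht, t2⟩ : ∃ t ∈ N, orderOf t = 2 := by_contra fun r => h0 (by
      have : N.map L.subtype ≤ Op' 2 L := le_Op' ⟨map_subtype_le _, fun g hg => mem_norm_of_conj (by
        rintro _ ⟨n, hn, rfl⟩; exact mem_map_of_mem L.subtype (hN.conj_mem n hn ⟨g, hg⟩))⟩ (by
          rw [card_map_of_injective L.subtype_injective]
          exact odd_card_iff.2 fun t ht e => r ⟨t, ht, e⟩)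
      exact (map_eq_bot_iff_of_injective _ L.subtype_injective).1 (le_bot_iff.1 (hO ▸ this.trans (pcoreS_normal _ nL))))
    have : L ≤ N.map L.subtype := (closure_le _).2 fun z hz => by
      obtain ⟨c, e⟩ := isConj_iff.1 (SE.isConj se t2 (b := ⟨z, subset_closure hz⟩) (by rw [← orderOf_coe]; exact hz.1))
      exact ⟨_, hN.conj_mem t ht c, congrArg Subtype.val e⟩
    exact eq_top_iff.2 fun z _ => (mem_map_iff_mem L.subtype_injective).1 (this z.2)
  have : Nontrivial L := ⟨⟨⟨x, hI x hx x2⟩, ⟨y, hI y hy y2⟩, fun e => hne (congrArg Subtype.val e)⟩⟩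
  have : IsSimpleGroup L := ⟨fun N hN => (eq_or_ne N ⊥).imp_right (big N hN)⟩
  have hna : ¬ IsMulCommutative L := fun ab => by
    obtain ⟨c, e⟩ := isConj_iff.1 (SE.isConj se (a := ⟨x, hI x hx x2⟩) (b := ⟨y, hI y hy y2⟩)
      (by rw [← orderOf_coe]; exact x2) (by rw [← orderOf_coe]; exact y2))
    rw [mul_comm' c, mul_inv_cancel_right] at e
    exact hne (congrArg Subtype.val e)
  have hS := Sylow_setI_normal nL hT
  have nn : ∀ {X : Subgroup G}, X ≤ N[L] := fun {_} => le_top.trans nL.norm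
  have fin : S ≤ L → T ⊓ ncl ⊤ S ≤ L ⊓ T := fun l => by
    rw [inf_comm]; exact inf_le_inf_right _ (ncl_le_of_norm l nL.norm)
  by_cases nB : L ⊓ T ≤ S
  · exact .inl ((fin (case1 hna h hB.pg nn (by rwa [show L ⊓ S = L ⊓ T from le_antisymm (inf_le_inf_left _ hsc.1)
      (le_inf inf_le_left nB)]) se)).trans nB)
  have hA : CL (omegaOne 2 S) := cl_of_sylow hT ⟨(Ohm_sub 2 S).trans hsc.1, fun a ha g e =>
    mem_Ohm1 (hsc.2 a (Ohm_sub 2 S ha) g e) (by rw [conj_pow, ci.abelem.pow ha]; simp)⟩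
  obtain ⟨M, a, t, hn, l0⟩ := (kcase hna hT.pg hS hA ((Ohm_sub 2 S).trans hsc.1) (abelemP.1 ci.abelem).1.cent fun e =>
    ne_one_of x2 (e.le ⟨mem_Ohm1 hx (x2 ▸ pow_orderOf_eq_one x), hI x hx x2⟩)).resolve_left
      fun e => nB (e.trans (Ohm_sub 2 S))
  have l := case2 hna hT.pg nn hS hB hsc.1 nB hI hn (l0.trans (Ohm_sub 2 S))
  refine .inr ⟨fun s hs => ?_, fun u hu uu => l0.trans (Ohm_sub 2 S) ?_⟩
  · obtain ⟨u, hu, rfl⟩ := l hs
    exact congrArg Subtype.val (hn.Q0_sq hu)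
  · have := fin (l.trans (map_subtype_le _)) hu
    exact ⟨⟨u, this.1⟩, mem_Q0_of this (Subtype.ext uu), rfl⟩

theorem le_of_quo {O X : Subgroup G} (nO : O ⊴ ⊤) (ho : Odd #O) (h2 : IsPGroup 2 T) (l : S ≤ T) (hx : x ∈ T)
    (h : coset O x ∈ S /ᵍ O) : x ∈ S := by
  have n : ∀ {X : Subgroup G}, X ≤ N[O] := fun {_} => le_top.trans nO.norm
  have := (quotientK (n (X := S))).le (mem_coquo.2 ⟨n (mem_top x), h⟩)
  obtain ⟨o, h1, s, hs, rfl⟩ := (mem_sup_norml n).1 this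
  rwa [(two_of_mem h2 ((T.mul_mem_cancel_right (l hs)).1 hx)).eq_one (odd_orderOf_of_mem ho h1), one_mul]

theorem r2 (h : UH S H) (hT : SylowIn 2 T ⊤) (hsc : IsStronglyClosed S T) (hr : SE.Rank2 S) : Con S T := by
  have nO : Op' 2 ⊤ ⊴ (⊤ : Subgroup G) := pcore_normal _ _
  have ho := odd_Op' (⊤ : Subgroup G)
  generalize hO : Op' 2 (⊤ : Subgroup G) = O at nO ho
  have n : ∀ {X : Subgroup G}, X ≤ N[O] := fun {_} => le_top.trans nO.norm
  have n' : ∀ x : G, x ∈ N[O] := fun x => n (mem_top x)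
  have hB := cl_of_sylow hT hsc
  have OH : O ≤ H := by
    obtain ⟨x, hx, y, hy, x2, y2, hne, hc⟩ := hr
    have k : ∀ z ∈ S, orderOf z = 2 → O ⊓ C1[z] ≤ H := fun z hz z2 c hc =>
      h.uq z hz z2 c (by rw [mem_cent1.1 hc.2]; simpa using h.le hz)
    exact SE.le_of_four x2 y2 hne hc ho (n' _) (n' _) (k x hx x2) (k y hy y2) (k _ (mul_mem hx hy)
      (orderOf_mul_of_commute (mul_self_of x2) (mul_self_of y2) hc hne))
  have kH : ∀ g, coset O g ∈ H /ᵍ O → g ∈ H := fun g e => quotientGK ⟨OH, n⟩ ▸ mem_coquo.2 ⟨n' g, e⟩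
  have k1 : ∀ s ∈ S, coset O s = 1 → s = 1 := fun s hs e =>
    (two_of_mem hB.pg hs).eq_one (odd_orderOf_of_mem ho ((coset_eq_one (n' s)).1 e))
  have k2 : ∀ s ∈ S, orderOf (coset O s) = 2 ↔ orderOf s = 2 := fun s hs => by
    rw [orderOf_two_iff, orderOf_two_iff, ← coset_mul (n' s) (n' s)]
    exact and_congr ⟨k1 _ (mul_mem hs hs), fun e => by rw [e, coset_one]⟩ ⟨fun r e => r (by rw [e, coset_one]),
      fun r e => r (k1 s hs e)⟩
  have hT' := quotient_pHall n hT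
  rw [quo_top nO] at hT'
  have := r2core (S := S /ᵍ O) (H := H /ᵍ O) (by rw [← quo_top nO, ← hO]; exact trivg_pcore_quotient _ ⊤)
    ⟨quotientS _ h.le, fun e => h.ne (eq_top_iff.2 fun g _ => kH g (e ▸ mem_top _)), fun z hz z2 g e => by
      obtain ⟨z, hz', -, rfl⟩ := mem_quotient_iff.1 hz
      obtain ⟨g, -, -, rfl⟩ := mem_quotient_iff.1 ((quo_top nO).ge (mem_top g))
      rw [← coset_inv (n' _), ← coset_mul (n' _) (n' _), ← coset_mul (n' _) (n' _)] at e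
      exact mem_quotient (n' g) (h.uq z hz' ((k2 z hz').1 z2) g (kH _ e))⟩ hT'
    ⟨quotientS _ hsc.1, fun a ha g => (hB.quo n).cl _ hT'.pg (quotientS _ hsc.1) g a ha⟩ (by
      obtain ⟨x, hx, y, hy, x2, y2, hne, hc⟩ := hr
      refine ⟨_, mem_quotient (n' x) hx, _, mem_quotient (n' y) hy, (k2 x hx).2 x2, (k2 y hy).2 y2, fun e => hne ?_, ?_⟩
      · refine mul_inv_eq_one.1 (k1 _ (mul_mem hx (inv_mem hy)) ?_)
        rw [coset_mul (n' _) (n' _), coset_inv (n' _), e, mul_inv_cancel]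
      · rw [Commute, SemiconjBy, ← coset_mul (n' _) (n' _), ← coset_mul (n' _) (n' _), hc.eq])
  have k3 : ∀ x ∈ T ⊓ ncl ⊤ S, coset O x ∈ T /ᵍ O ⊓ ncl ⊤ (S /ᵍ O) := fun x hx => ⟨mem_quotient (n' x) hx.1, by
    rw [← quo_top nO, ← quotient_ncl n le_top]; exact mem_quotient (n' x) hx.2⟩
  refine this.imp (fun r x hx => le_of_quo (X := O) nO ho hT.pg hsc.1 hx.1 (r (k3 x hx))) fun r => ⟨fun s hs => k1 _
    (mul_mem hs hs) ?_, fun x hx e => le_of_quo (X := O) nO ho hT.pg hsc.1 hx.1 (r.2 _ (k3 x hx) ?_)⟩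
  · rw [coset_mul (n' _) (n' _)]; exact r.1 _ (mem_quotient (n' s) hs)
  · rw [← coset_mul (n' _) (n' _), e, coset_one]

end Cfsg.Agent.SCl
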